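import Groth.Agent.S16426
import Groth.Agent.IdealSh.IdealMod
import Groth.Agent.IdealSh.Comap
import Groth.Agent.AmpleLib.Ideal
import Groth.Agent.ProjTwist.Invertible
import Groth.Agent.FlatSect.Basic

/-!
The locus over which an ideal sheaf pulls back to zero, for a proper flat morphism of finite presentation.
-/

set_option autoImplicit false
set_option linter.style.haveILetI false

universe u

open CategoryTheory CategoryTheory.Limits AlgebraicGeometry TopologicalSpace Opposite TensorProduct OmegaSh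

noncomputable section

namespace Groth.Agent.VanFlat12

/-- The pullback of the inclusion of an ideal module vanishes exactly when the inverse image ideal does. -/
theorem pullback_idealModι_eq_zero_iff {X Y : Scheme.{u}} (h : X ⟶ Y) (J : Y.IdealSheafData) :
    (Scheme.Modules.pullback h).map (ClSub.idealModι J) = 0 ↔ J.comap h = ⊥ := by
  haveI : (ClSub.idealMod J).IsQuasicoherent := AmpleLib.isQCoh_idealMod J
  haveI := ProjTwist.isQuasicoherent_structureModule Y
  have aff : ∀ (V : Y.affineOpens) (W : X.affineOpens) (e : W.1 ≤ h ⁻¹ᵁ V.1),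
      (Scheme.Modules.pullback W.2.fromSpec).map
        ((Scheme.Modules.pullback h).map (ClSub.idealModι J)) = 0 ↔ (J.comap h).ideal W = ⊥ := by
    intro V W e
    letI := (h.appLE V.1 W.1 e).hom.toAlgebra
    rw [← pullback_map_comp_iff, ← V.2.SpecMap_appLE_fromSpec h W.2 e]
    refine (pullback_map_eq_zero_iff_of_chart (ClSub.idealMod J) (Coh.structureModule Y)
      (ClSub.idealModι J) V.2 Γ(X, W.1)).trans ?_
    rw [IdealSh.Comap.ideal_comap J h V W e, Ideal.map_eq_bot_iff_le_ker]
    have key : ∀ s : Γ(ClSub.idealMod J, V.1),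
        (1 : Γ(X, W.1)) ⊗ₜ[Γ(Y, V.1)] ((ClSub.idealModι J).app V.1 s) = 0 ↔
          h.appLE V.1 W.1 e (idealSect J V.1 s) = 0 := fun s => by
      refine (TensorProduct.rid Γ(Y, V.1) Γ(X, W.1)).map_eq_zero_iff.symm.trans ?_
      show (idealSect J V.1 s • (1 : Γ(X, W.1)) : Γ(X, W.1)) = 0 ↔ _
      rw [Algebra.smul_def, mul_one]
      rfl
    refine (forall_congr' key).trans ⟨fun H t ht => ?_, fun H s => H (IdealSh.IdealMod.sect_mem J V s)⟩
    obtain ⟨s, rfl⟩ := IdealSh.IdealMod.exists_sect J V.1 t ((IdealSh.IdealMod.mem_ideal_iff J V t).1 ht)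
    exact H s
  refine ⟨fun h0 => IdealSh.Comap.ext_of_forall_exists _ _ fun x => ?_, fun h0 => ?_⟩
  · obtain ⟨V, W, hx, e⟩ := IdealSh.Comap.exists_affine_pair h x
    exact ⟨W, hx, ((aff V W e).1 (by rw [h0]; exact Functor.map_zero _ _ _)).trans
      (congrFun Scheme.IdealSheafData.ideal_bot W).symm⟩
  · refine eq_zero_of_flat_cover _ fun x => ?_
    obtain ⟨V, W, hx, e⟩ := IdealSh.Comap.exists_affine_pair h x
    refine ⟨_, W.2.fromSpec, inferInstance, W.2.range_fromSpec.ge hx, (aff V W e).2 ?_⟩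
    rw [h0, Scheme.IdealSheafData.ideal_bot]
    rfl

/-- Over a base of a proper flat morphism, an ideal sheaf vanishes over a closed subscheme. -/
theorem exists_ideal_vanishing {Y S : Scheme.{u}} (q : Y ⟶ S) [IsProper q]
    [LocallyOfFinitePresentation q] [Flat q] (J : Y.IdealSheafData) :
    ∃ (Z : Scheme.{u}) (i : Z ⟶ S), IsClosedImmersion i ∧
      ∀ (T : Scheme.{u}) (g : T ⟶ S),
        ((∃ h : T ⟶ Z, h ≫ i = g) ↔ J.comap (pullback.fst q g) = ⊥) := by
  haveI := ProjTwist.isQuasicoherent_structureModule Y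
  have hfp : CohB1.IsFP (Coh.structureModule Y) :=
    (Props.QFP.isFP_iff _).2 fun U _ => inferInstanceAs (Module.FinitePresentation Γ(Y, U) Γ(Y, U))
  have hfl : FlatMod.IsFlatOver q (Coh.structureModule Y) := by
    intro x
    obtain ⟨V, U, hV, hU, e, hx⟩ := FlatSect.exists_chart q x
    refine FlatSect.isFlatOverAt_of_flat_sections q hV hU e (Coh.structureModule Y) ?_ x hx
    exact q.flat_appLE hV hU e
  obtain ⟨Z, i, hi, hZ⟩ := S16426.result Y S q (ClSub.idealMod J) (Coh.structureModule Y)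
    (AmpleLib.isQCoh_idealMod J) hfp hfl (ClSub.idealModι J)
  exact ⟨Z, i, hi, fun T g => (hZ T g).trans (pullback_idealModι_eq_zero_iff _ J)⟩

/-- The locus over which one closed subscheme, proper and flat over the base, is contained in another. -/
theorem exists_le_locus {X S : Scheme.{u}} (f : X ⟶ S) (I I' : X.IdealSheafData)
    [IsProper (I'.subschemeι ≫ f)] [LocallyOfFinitePresentation (I'.subschemeι ≫ f)]
    [Flat (I'.subschemeι ≫ f)] :
    ∃ (Z : Scheme.{u}) (i : Z ⟶ S), IsClosedImmersion i ∧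
      ∀ (T : Scheme.{u}) (g : T ⟶ S),
        ((∃ h : T ⟶ Z, h ≫ i = g) ↔
          I.comap (pullback.fst f g) ≤ I'.comap (pullback.fst f g)) := by
  obtain ⟨Z, i, hi, hZ⟩ := exists_ideal_vanishing (I'.subschemeι ≫ f) (I.comap I'.subschemeι)
  refine ⟨Z, i, hi, fun T g => (hZ T g).trans ?_⟩
  let j : pullback (I'.subschemeι ≫ f) g ⟶ pullback f g :=
    pullback.lift (pullback.fst _ _ ≫ I'.subschemeι) (pullback.snd _ _)
      (by rw [Category.assoc, pullback.condition])
  have hj : IsPullback j (pullback.fst (I'.subschemeι ≫ f) g) (pullback.fst f g) I'.subschemeι := by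
    refine (IsPullback.of_bot ?_ (pullback.lift_fst _ _ _).symm (IsPullback.of_hasPullback f g)).flip
    rw [pullback.lift_snd]
    exact IsPullback.of_hasPullback _ g
  have hker : j.ker = I'.comap (pullback.fst f g) := by
    rw [← hj.isoPullback_hom_fst, Scheme.Hom.ker_comp_of_isIso]
    rfl
  rw [← hker, ← Scheme.IdealSheafData.map_bot, Scheme.IdealSheafData.le_map_iff_comap_le, le_bot_iff,
    ← Scheme.IdealSheafData.comap_comp, ← Scheme.IdealSheafData.comap_comp, pullback.lift_fst]

/-- A closed immersion as the subscheme of its ideal. -/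
theorem exists_idealSheafData_iff {Z S : Scheme.{u}} (i : Z ⟶ S) [IsClosedImmersion i] :
    ∃ 𝓩 : S.IdealSheafData, ∀ (T : Scheme.{u}) (g : T ⟶ S),
      (∃ t : T ⟶ 𝓩.subscheme, t ≫ 𝓩.subschemeι = g) ↔ ∃ h : T ⟶ Z, h ≫ i = g := by
  refine ⟨i.ker, fun T g => ⟨fun ⟨t, ht⟩ => ⟨t ≫ inv i.toImage, ?_⟩, fun ⟨h, hh⟩ => ⟨h ≫ i.toImage, ?_⟩⟩⟩
  · rw [← ht, Category.assoc]
    congr 1
    exact (IsIso.inv_comp_eq _).2 i.toImage_imageι.symm
  · rw [← hh, Category.assoc]
    exact congrArg (h ≫ ·) i.toImage_imageι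

end Groth.Agent.VanFlat12
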