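import Groth.Agent.IdealSh.RelFlat
import Mathlib.AlgebraicGeometry.PullbackCarrier
import Mathlib.AlgebraicGeometry.Pullbacks
import Mathlib.AlgebraicGeometry.Morphisms.FinitePresentation

/-!
Relative effective Cartier divisors: base change, powers, finite presentation.
-/

set_option autoImplicit false

universe u

open CategoryTheory CategoryTheory.Limits AlgebraicGeometry TopologicalSpace TensorProduct
open Groth.Agent.IdealSh Groth.Agent.IdealSh.Comap

noncomputable section

namespace Groth.Agent.VanFlat12.CartierBC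

theorem tmul_mem_nonZeroDivisors {R A R' : Type u} [CommRing R] [CommRing A] [CommRing R'] [Algebra R A]
    [Algebra R R'] {a : A} (ha : a ∈ nonZeroDivisors A) [Module.Flat R (A ⧸ Ideal.span {a})] :
    ((1 : R') ⊗ₜ[R] a) ∈ nonZeroDivisors (R' ⊗[R] A) := by
  let m : A →ₗ[R] A := LinearMap.mulLeft R a
  let q : A →ₗ[R] A ⧸ Ideal.span {a} := (Ideal.Quotient.mkₐ R (Ideal.span {a})).toLinearMap
  have hex : Function.Exact m q := fun x => by
    change Ideal.Quotient.mk _ x = 0 ↔ x ∈ Set.range (fun y => a * y)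
    rw [Ideal.Quotient.eq_zero_iff_mem, Ideal.mem_span_singleton']
    exact ⟨fun ⟨c, hc⟩ => ⟨c, by rw [← hc, mul_comm]⟩, fun ⟨c, hc⟩ => ⟨c, by rw [← hc, mul_comm]⟩⟩
  have hinj : Function.Injective m := fun x y h => (mul_cancel_left_mem_nonZeroDivisors ha).1 h
  have key := LocFlat.lTensor_injective_of_flat_coker m q hex Ideal.Quotient.mk_surjective hinj R'
  have hm : ∀ z : R' ⊗[R] A, ((1 : R') ⊗ₜ[R] a) * z = m.lTensor R' z := fun z => by
    induction z using TensorProduct.induction_on with
    | zero => simp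
    | tmul x y => simp [m]
    | add x y hx hy => simp [mul_add, hx, hy]
  rw [mem_nonZeroDivisors_iff_left]
  intro z hz
  refine key ?_
  rw [← hm, hz, map_zero]

/-- The same for any pushout square of rings. -/
theorem mem_nonZeroDivisors_of_isPushout {R A R' B : CommRingCat.{u}} {f : R ⟶ R'} {g : R ⟶ A} {h : R' ⟶ B}
    {k : A ⟶ B} (sq : IsPushout f g h k) {a : A} (ha : a ∈ nonZeroDivisors A)
    (hflat : ((Ideal.Quotient.mk (Ideal.span {a})).comp g.hom).Flat) :
    k.hom a ∈ nonZeroDivisors B := by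
  let _ : Algebra R A := g.hom.toAlgebra
  let _ : Algebra R R' := f.hom.toAlgebra
  have : Module.Flat R (A ⧸ Ideal.span {a}) := hflat
  have h₀ := tmul_mem_nonZeroDivisors (R' := R') (R := R) ha
  let e := (CommRingCat.isPushout_tensorProduct R R' A).isoIsPushout _ _ sq
  have he : e.hom ((1 : R') ⊗ₜ[R] a) = k.hom a :=
    congr($((CommRingCat.isPushout_tensorProduct R R' A).inr_isoIsPushout_hom _ _ sq).hom a)
  rw [← he]
  exact EffCartier.map_mem_nonZeroDivisors_of_flat e.hom.hom
    (RingHom.Flat.of_bijective (ConcreteCategory.bijective_of_isIso _)) h₀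

/-- The pullback of a relative effective Cartier divisor along a base change is effective Cartier. -/
theorem comap_of_isPullback {X S S' X' : Scheme.{u}} {f : X ⟶ S} {D : X.IdealSheafData}
    (hD : BlowUp.IsEffCartierIdeal D) [Flat (D.subschemeι ≫ f)] {g : S' ⟶ S} {g' : X' ⟶ X} {f' : X' ⟶ S'}
    (H : IsPullback g' f' f g) : BlowUp.IsEffCartierIdeal (D.comap g') := fun x => by
  obtain ⟨U, hU, -⟩ := exists_affine_le (f (g' x)) ⊤ trivial
  obtain ⟨V, hxV, hVU, a, ha, ea⟩ := EffCartier.exists_equation hD (g' x) (f ⁻¹ᵁ U.1) hU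
  obtain ⟨U', hxU', hU'⟩ := exists_affine_le (f' x) (g ⁻¹ᵁ U.1) (by
    change g (f' x) ∈ U.1
    rw [← Scheme.Hom.comp_apply, ← H.w, Scheme.Hom.comp_apply]
    exact hU)
  let W : X'.Opens := g' ⁻¹ᵁ V.1 ⊓ f' ⁻¹ᵁ U'.1
  have hW : IsAffineOpen W := by
    have : IsAffine (U.1 : Scheme.{u}) := U.2
    have : IsAffine (U'.1 : Scheme.{u}) := U'.2
    have : IsAffine (V.1 : Scheme.{u}) := V.2
    exact .of_isIso (Scheme.Hom.isPullback_resLE H hU' hVU (rfl : W = _)).isoPullback.hom
  have hWV : W ≤ g' ⁻¹ᵁ V.1 := inf_le_left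
  have sq := (isIso_pushoutSection_iff H hU' hVU (rfl : W = _)).1
    (isIso_pushoutSection_of_isAffineOpen H hU' hVU rfl U.2 U'.2 V.2)
  refine ⟨⟨W, hW⟩, ⟨hxV, hxU'⟩, _, ?_, ideal_comap_span_singleton D g' V ⟨W, hW⟩ hWV ea⟩
  refine mem_nonZeroDivisors_of_isPushout sq.flip ha ?_
  have h := RelFlat.flat_quot_of_flat_subscheme f D U V hVU
  rw [ea] at h
  exact h

variable {S : Scheme.{u}}


/-- An effective Cartier divisor is of finite presentation in the ambient scheme. -/
theorem lfp_subschemeι {X : Scheme.{u}} {I : X.IdealSheafData}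
    (hI : BlowUp.IsEffCartierIdeal I) : LocallyOfFinitePresentation I.subschemeι := by
  refine (HasRingHomProperty.iff_exists_appLE (P := @LocallyOfFinitePresentation)
    (RingHom.finitePresentation_stableUnderComposition.stableUnderCompositionWithLocalizationAway
      RingHom.finitePresentation_holdsForLocalizationAway).left).mpr fun d => ?_
  obtain ⟨V, hV, t, -, ht⟩ := hI (I.subschemeι d)
  refine ⟨V, ⟨_, V.2.preimage I.subschemeι⟩, hV, le_rfl, ?_⟩
  rw [← Scheme.Hom.app_eq_appLE, I.subschemeι_app V]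
  refine (RingHom.finitePresentation_respectsIso).1 _ (I.subschemeObjIso V).symm.commRingCatIsoToRingEquiv ?_
  refine RingHom.FinitePresentation.of_surjective _ Ideal.Quotient.mk_surjective ?_
  show (RingHom.ker (Ideal.Quotient.mk (I.ideal V))).FG
  rw [Ideal.mk_ker, ht]
  exact Submodule.fg_span_singleton t

/-- Powers of a relative effective Cartier divisor are flat over the base. -/
theorem flat_pow {X S : Scheme.{u}} (f : X ⟶ S) {I : X.IdealSheafData}
    (hI : BlowUp.IsEffCartierIdeal I) [Flat (I.subschemeι ≫ f)] :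
    ∀ n : ℕ, Flat ((I ^ n).subschemeι ≫ f)
  | 0 => RelFlat.flat_subscheme_of_forall f _ fun x hx => absurd hx (by rw [pow_zero, Scheme.IdealSheafData.one_eq_top, Scheme.IdealSheafData.support_top]; exact id)
  | n + 1 => by
      haveI := flat_pow f hI n
      rw [pow_succ]
      exact RelFlat.flat_mul f (EffCartier.pow hI n) hI

end Groth.Agent.VanFlat12.CartierBC
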