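import Groth.Agent.VanFlat12.Poles

/-!
Extending a section defined off an effective Cartier divisor, after a change of schemes.
-/

set_option autoImplicit false
set_option linter.style.haveILetI false

universe u

open CategoryTheory CategoryTheory.Limits AlgebraicGeometry TopologicalSpace Opposite

noncomputable section

namespace Groth.Agent.VanFlat12.Poles

open Groth.Agent.IdealSh

variable {P P' Y : Scheme.{u}} (I : P.IdealSheafData) (Q : P.Opens)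
  (hQ : Q = I.support.compl) (p : Y ⟶ P) [IsAffineHom p] (s : (Q : Scheme.{u}) ⟶ Y) (hs : s ≫ p = Q.ι)
  (β : P' ⟶ P) (hI' : BlowUp.IsEffCartierIdeal (I.comap β))

include hQ in
theorem preimage_eq_compl : β ⁻¹ᵁ Q = (I.comap β).support.compl := by
  subst hQ
  rw [Scheme.IdealSheafData.support_comap]
  rfl

include hQ hI' in
theorem rs_injective (W : P'.Opens) :
    Function.Injective (rs P' (inf_le_left : W ⊓ β ⁻¹ᵁ Q ≤ W)) :=
  rs_inf_injective (I.comap β) hI' _ (preimage_eq_compl I Q hQ β) W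

omit [IsAffineHom p] in
theorem homOfLE_appTop_appLE {R W : P'.Opens} (h : R ≤ W) (c : Γ(P', W)) :
    (P'.homOfLE h).appTop (W.ι.appLE W ⊤ W.ι_preimage_self.ge c) =
      R.ι.appLE R ⊤ R.ι_preimage_self.ge (rs P' h c) := by
  rw [← CommRingCat.comp_apply]
  show (W.ι.appLE W ⊤ W.ι_preimage_self.ge ≫ (P'.homOfLE h).appTop) c =
    (P'.presheaf.map _ ≫ R.ι.appLE R ⊤ R.ι_preimage_self.ge) c
  rw [Scheme.Hom.map_appLE, show (P'.homOfLE h).appTop = (P'.homOfLE h).appLE ⊤ ⊤ le_rfl from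
    Scheme.Hom.app_eq_appLE _, Scheme.Hom.appLE_comp_appLE]
  simp only [Scheme.homOfLE_ι]

include hI' hQ in
theorem appTop_injective (W : P'.Opens) :
    Function.Injective (P'.homOfLE (inf_le_left : W ⊓ β ⁻¹ᵁ Q ≤ W)).appTop := by
  intro a b hab
  obtain ⟨a, rfl⟩ := (ConcreteCategory.bijective_of_isIso (W.ι.appLE W ⊤ W.ι_preimage_self.ge)).2 a
  obtain ⟨b, rfl⟩ := (ConcreteCategory.bijective_of_isIso (W.ι.appLE W ⊤ W.ι_preimage_self.ge)).2 b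
  rw [homOfLE_appTop_appLE, homOfLE_appTop_appLE] at hab
  exact congrArg _ (rs_injective I Q hQ β hI' W ((ConcreteCategory.bijective_of_isIso _).1 hab))

include hQ hI' in
/-- A morphism over the base is determined off the divisor. -/
theorem lift_ext (f₁ f₂ : P' ⟶ Y) (h₁ : f₁ ≫ p = β) (h₂ : f₂ ≫ p = β)
    (h : (β ⁻¹ᵁ Q).ι ≫ f₁ = (β ⁻¹ᵁ Q).ι ≫ f₂) : f₁ = f₂ := by
  have hpt : ∀ x : P', ∃ (V : P.affineOpens) (W : P'.affineOpens), x ∈ W.1 ∧ W.1 ≤ β ⁻¹ᵁ V.1 :=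
    fun x => Comap.exists_affine_pair β x
  choose V W hx e using hpt
  refine (P'.openCoverOfIsOpenCover (fun x => (W x).1)
    (.mk (top_unique fun x _ => Opens.mem_iSup.2 ⟨x, hx x⟩))).hom_ext _ _ fun x => ?_
  show (W x).1.ι ≫ f₁ = (W x).1.ι ≫ f₂
  haveI : IsAffine (p ⁻¹ᵁ (V x).1).toScheme := (V x).2.preimage p
  have hr : ∀ f : P' ⟶ Y, f ≫ p = β →
      Set.range ((W x).1.ι ≫ f) ⊆ Set.range (p ⁻¹ᵁ (V x).1).ι := by
    rintro f rfl _ ⟨z, rfl⟩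
    rw [Scheme.Opens.range_ι]
    exact e x z.2
  rw [← IsOpenImmersion.lift_fac (p ⁻¹ᵁ (V x).1).ι _ (hr f₁ h₁),
    ← IsOpenImmersion.lift_fac (p ⁻¹ᵁ (V x).1).ι _ (hr f₂ h₂)]
  congr 1
  refine ext_of_isAffine ?_
  ext a
  apply appTop_injective I Q hQ β hI' (W x).1
  rw [← CommRingCat.comp_apply, ← CommRingCat.comp_apply, ← Scheme.Hom.comp_appTop,
    ← Scheme.Hom.comp_appTop]
  refine congrArg (fun φ => (CommRingCat.Hom.hom φ) a) (congrArg Scheme.Hom.appTop ?_)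
  rw [← cancel_mono (p ⁻¹ᵁ (V x).1).ι, Category.assoc, Category.assoc, IsOpenImmersion.lift_fac,
    IsOpenImmersion.lift_fac, P'.homOfLE_ι_assoc, P'.homOfLE_ι_assoc,
    ← P'.homOfLE_ι (inf_le_right : (W x).1 ⊓ β ⁻¹ᵁ Q ≤ β ⁻¹ᵁ Q), Category.assoc, Category.assoc, h]

section Chart

variable (V : P.affineOpens) (W : P'.affineOpens) (e : W.1 ≤ β ⁻¹ᵁ V.1)

/-- the base change of the section on functions, near `W` -/
def sB' : Γ(Y, p ⁻¹ᵁ V.1) →+* Γ(P', W.1 ⊓ β ⁻¹ᵁ Q) :=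
  (β.appLE (V.1 ⊓ Q) (W.1 ⊓ β ⁻¹ᵁ Q) (fun _ hx => ⟨e hx.1, hx.2⟩)).hom.comp (sB Q p s hs V.1)

omit [IsAffineHom p] in
theorem appLE_rs {U U' : P.Opens} (h : U' ≤ U) {R R' : P'.Opens} (hR : R' ≤ R) (e1 : R ≤ β ⁻¹ᵁ U)
    (e2 : R' ≤ β ⁻¹ᵁ U') (a : Γ(P, U)) :
    β.appLE U' R' e2 (rs P h a) = rs P' hR (β.appLE U R e1 a) := by
  show (P.presheaf.map _ ≫ β.appLE _ _ _) a = (β.appLE _ _ _ ≫ P'.presheaf.map _) a
  rw [Scheme.Hom.map_appLE, Scheme.Hom.appLE_map]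

include hI' hQ in
/-- If the section extends near `W`, the numerators of order `n` are multiples of the `n`-th power. -/
theorem num_le_of_range (hI : BlowUp.IsEffCartierIdeal I)
    (h : ∀ b, sB' Q p s hs β V W e b ∈ (rs P' (inf_le_left : W.1 ⊓ β ⁻¹ᵁ Q ≤ W.1)).range) (n : ℕ) :
    ((num I hI Q hQ p s hs n).comap β).ideal W ≤ ((I ^ n).comap β).ideal W := by
  rw [Comap.ideal_comap _ β V W e, Comap.ideal_comap _ β V W e]
  refine Ideal.map_le_iff_le_comap.2 (Ideal.span_le.2 ?_)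
  rintro a ⟨u, hu, b, hab⟩
  obtain ⟨c, hc⟩ := h b
  have : β.appLE V.1 W.1 e a = β.appLE V.1 W.1 e u * c := by
    apply rs_injective I Q hQ β hI' W.1
    rw [map_mul, hc, sB', RingHom.comp_apply,
      ← appLE_rs β (inf_le_left : V.1 ⊓ Q ≤ V.1) inf_le_left e (fun _ hx => ⟨e hx.1, hx.2⟩),
      ← appLE_rs β (inf_le_left : V.1 ⊓ Q ≤ V.1) inf_le_left e (fun _ hx => ⟨e hx.1, hx.2⟩), ← map_mul,
      hab]
  show β.appLE V.1 W.1 e a ∈ ((I ^ n).ideal V).map (β.appLE V.1 W.1 e).hom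
  rw [this]
  exact Ideal.mul_mem_right _ _ (Ideal.mem_map_of_mem _ hu)

include hQ in
/-- On a chart with an equation the converse holds. -/
theorem range_of_num_le (hI : BlowUp.IsEffCartierIdeal I) (t : Γ(P, V.1))
    (ht : I.ideal V = Ideal.span {t})
    (h : ∀ n, ((num I hI Q hQ p s hs n).comap β).ideal W ≤ ((I ^ n).comap β).ideal W) (b : Γ(Y, p ⁻¹ᵁ V.1)) :
    sB' Q p s hs β V W e b ∈ (rs P' (inf_le_left : W.1 ⊓ β ⁻¹ᵁ Q ≤ W.1)).range := by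
  letI : Algebra Γ(P, V.1) Γ(P, V.1 ⊓ Q) := (rs P inf_le_left).toAlgebra
  haveI : IsLocalization.Away t Γ(P, V.1 ⊓ Q) :=
    V.2.isLocalization_of_eq_basicOpen t (homOfLE inf_le_left) (basicOpen_eq I Q hQ V t ht).symm
  obtain ⟨⟨a, ⟨_, n, rfl⟩⟩, hn⟩ := IsLocalization.surj (Submonoid.powers t) (sB Q p s hs V.1 b)
  simp only [RingHom.algebraMap_toAlgebra] at hn
  have hpow : (I ^ n).ideal V = Ideal.span {t ^ n} := by
    rw [← Ideal.span_singleton_pow, ← ht]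
    simp
  have hmem : a ∈ (num I hI Q hQ p s hs n).ideal V :=
    Ideal.subset_span ⟨t ^ n, hpow ▸ Ideal.mem_span_singleton_self _, b, by rw [mul_comm, hn]⟩
  have h2 := h n
  rw [Comap.ideal_comap _ β V W e, Comap.ideal_comap _ β V W e, hpow, Ideal.map_span,
    Set.image_singleton] at h2
  obtain ⟨c, hc⟩ := Ideal.mem_span_singleton'.1 (h2 (Ideal.mem_map_of_mem _ hmem))
  refine ⟨c, ?_⟩
  have hu : IsUnit (β.appLE (V.1 ⊓ Q) (W.1 ⊓ β ⁻¹ᵁ Q) (fun _ hx => ⟨e hx.1, hx.2⟩)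
      (rs P (inf_le_left : V.1 ⊓ Q ≤ V.1) (t ^ n))) :=
    (IsLocalization.map_units (M := Submonoid.powers t) Γ(P, V.1 ⊓ Q) ⟨t ^ n, n, rfl⟩).map _
  refine hu.mul_left_injective ?_
  show _ * _ = _ * _
  rw [sB', RingHom.comp_apply, ← map_mul, hn,
    appLE_rs β (inf_le_left : V.1 ⊓ Q ≤ V.1) inf_le_left e (fun _ hx => ⟨e hx.1, hx.2⟩),
    appLE_rs β (inf_le_left : V.1 ⊓ Q ≤ V.1) inf_le_left e (fun _ hx => ⟨e hx.1, hx.2⟩),
    ← map_mul]
  exact congrArg _ hc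

/-- the section, near `W` -/
abbrev σW : (W.1 ⊓ β ⁻¹ᵁ Q).toScheme ⟶ Y := P'.homOfLE inf_le_right ≫ (β ∣_ Q) ≫ s

include hs e in
omit [IsAffineHom p] in
theorem σW_le : (⊤ : (W.1 ⊓ β ⁻¹ᵁ Q).toScheme.Opens) ≤ σW Q s β W ⁻¹ᵁ (p ⁻¹ᵁ V.1) := by
  intro z _
  show p (σW Q s β W z) ∈ V.1
  rw [← Scheme.Hom.comp_apply, Category.assoc, Category.assoc, hs, morphismRestrict_ι,
    P'.homOfLE_ι_assoc, Scheme.Hom.comp_apply]
  exact e z.2.1

omit [IsAffineHom p] in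
/-- the section near `W`, on functions -/
theorem σW_appLE (b : Γ(Y, p ⁻¹ᵁ V.1)) :
    (σW Q s β W).appLE (p ⁻¹ᵁ V.1) ⊤ (σW_le Q p s hs β V W e) b =
      (W.1 ⊓ β ⁻¹ᵁ Q).ι.appLE (W.1 ⊓ β ⁻¹ᵁ Q) ⊤ (Scheme.Opens.ι_preimage_self _).ge
        (sB' Q p s hs β V W e b) := by
  let R := W.1 ⊓ β ⁻¹ᵁ Q
  let u : R.toScheme ⟶ (Q : Scheme.{u}) := P'.homOfLE inf_le_right ≫ (β ∣_ Q)
  have hu : u ≫ Q.ι = R.ι ≫ β := by
    rw [Category.assoc, morphismRestrict_ι, P'.homOfLE_ι_assoc]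
  have h1 : (⊤ : R.toScheme.Opens) ≤ u ⁻¹ᵁ (Q.ι ⁻¹ᵁ V.1) := fun z _ => by
    show (u ≫ Q.ι) z ∈ V.1
    rw [hu]
    exact e z.2.1
  have hx : Q.ι.appLE (V.1 ⊓ Q) (Q.ι ⁻¹ᵁ V.1) (fun z hz => ⟨hz, z.2⟩) (sB Q p s hs V.1 b) =
      s.appLE (p ⁻¹ᵁ V.1) (Q.ι ⁻¹ᵁ V.1) (preimage_le Q p s hs V.1) b := by
    rw [Scheme.Opens.ι_appLE]
    show rs P _ (rs P _ _) = _
    rw [rs_rs]
    exact congr($(P.presheaf.map_id _) _)
  have e1 : σW Q s β W = u ≫ s := (Category.assoc _ _ _).symm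
  simp only [e1]
  rw [← Scheme.Hom.appLE_comp_appLE u s (p ⁻¹ᵁ V.1) (Q.ι ⁻¹ᵁ V.1) ⊤ (preimage_le Q p s hs V.1) h1,
    CommRingCat.comp_apply, ← hx, ← CommRingCat.comp_apply, Scheme.Hom.appLE_comp_appLE, sB',
    RingHom.comp_apply, ← CommRingCat.comp_apply, Scheme.Hom.appLE_comp_appLE]
  simp only [hu]
  rfl

include hI' hQ e in
/-- The section extends near `W` exactly when it does so on functions. -/
theorem exists_lift_iff :
    (∃ f : W.1.toScheme ⟶ Y, f ≫ p = W.1.ι ≫ β ∧ P'.homOfLE inf_le_left ≫ f = σW Q s β W) ↔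
      ∀ b, sB' Q p s hs β V W e b ∈ (rs P' (inf_le_left : W.1 ⊓ β ⁻¹ᵁ Q ≤ W.1)).range := by
  let R := W.1 ⊓ β ⁻¹ᵁ Q
  let j : R.toScheme ⟶ W.1.toScheme := P'.homOfLE inf_le_left
  let eR := R.ι.appLE R ⊤ R.ι_preimage_self.ge
  let eW := W.1.ι.appLE W.1 ⊤ W.1.ι_preimage_self.ge
  have hsq : ∀ c : Γ(P', W.1), j.appTop (eW c) = eR (rs P' (inf_le_left : R ≤ W.1) c) :=
    homOfLE_appTop_appLE inf_le_left
  constructor
  · rintro ⟨f, hf, hfj⟩ b
    have hle : (⊤ : W.1.toScheme.Opens) ≤ f ⁻¹ᵁ (p ⁻¹ᵁ V.1) := fun z _ => by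
      show (f ≫ p) z ∈ V.1
      rw [hf]
      exact e z.2
    obtain ⟨c, hc⟩ := (ConcreteCategory.bijective_of_isIso eW).2 (f.appLE (p ⁻¹ᵁ V.1) ⊤ hle b)
    refine ⟨c, (ConcreteCategory.bijective_of_isIso eR).1 ?_⟩
    rw [← hsq, hc, ← σW_appLE, ← CommRingCat.comp_apply,
      show j.appTop = j.appLE ⊤ ⊤ le_rfl from Scheme.Hom.app_eq_appLE _, Scheme.Hom.appLE_comp_appLE]
    simp only [j, hfj]
  · intro h
    haveI : IsAffine W.1.toScheme := W.2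
    haveI : IsAffine (p ⁻¹ᵁ V.1).toScheme := V.2.preimage p
    have hinj := appTop_injective I Q hQ β hI' W.1
    let Z := (p ⁻¹ᵁ V.1).toScheme
    let eZ := (p ⁻¹ᵁ V.1).ι.appLE (p ⁻¹ᵁ V.1) ⊤ (p ⁻¹ᵁ V.1).ι_preimage_self.ge
    have hr : Set.range (σW Q s β W) ⊆ Set.range (p ⁻¹ᵁ V.1).ι := by
      rintro _ ⟨z, rfl⟩
      rw [Scheme.Opens.range_ι]
      exact σW_le Q p s hs β V W e (show z ∈ ⊤ from trivial)
    let σZ : R.toScheme ⟶ Z := IsOpenImmersion.lift (p ⁻¹ᵁ V.1).ι (σW Q s β W) hr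
    have hrange : ∀ z, σZ.appTop z ∈ j.appTop.hom.range := fun z => by
      obtain ⟨b, rfl⟩ := (ConcreteCategory.bijective_of_isIso eZ).2 z
      obtain ⟨c, hc⟩ := h b
      refine ⟨eW c, ?_⟩
      rw [hsq, hc, ← σW_appLE, ← CommRingCat.comp_apply,
        show σZ.appTop = σZ.appLE ⊤ ⊤ le_rfl from Scheme.Hom.app_eq_appLE _, Scheme.Hom.appLE_comp_appLE]
      simp only [σZ, IsOpenImmersion.lift_fac]
    let ej := RingEquiv.ofBijective j.appTop.hom.rangeRestrict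
      ⟨fun x y hxy => hinj (congrArg Subtype.val hxy), RingHom.rangeRestrict_surjective _⟩
    let φ : Γ(Z, ⊤) →+* Γ(W.1.toScheme, ⊤) := (ej.symm : _ →+* _).comp
        (σZ.appTop.hom.codRestrict _ hrange)
    let f₀ : W.1.toScheme ⟶ Z :=
      W.1.toScheme.toSpecΓ ≫ Spec.map (CommRingCat.ofHom φ) ≫ (asIso Z.toSpecΓ).inv
    have hφ : f₀.appTop = CommRingCat.ofHom φ := by
      have h1 : f₀ ≫ Z.toSpecΓ = W.1.toScheme.toSpecΓ ≫ Spec.map (CommRingCat.ofHom φ) := by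
        simp [f₀]
      rw [Scheme.toSpecΓ_naturality, cancel_epi] at h1
      exact Spec.map_injective h1
    have hj : j ≫ f₀ = σZ := by
      refine ext_of_isAffine ?_
      ext z
      rw [Scheme.Hom.comp_appTop, CommRingCat.comp_apply, hφ]
      exact congrArg Subtype.val (ej.apply_symm_apply _)
    refine ⟨f₀ ≫ (p ⁻¹ᵁ V.1).ι, ?_, ?_⟩
    · haveI : IsAffine V.1.toScheme := V.2
      rw [Category.assoc, ← morphismRestrict_ι, ← Scheme.Hom.resLE_comp_ι β e, ← Category.assoc]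
      congr 1
      refine ext_of_isAffine ?_
      ext z
      apply hinj
      rw [← CommRingCat.comp_apply, ← CommRingCat.comp_apply, ← Scheme.Hom.comp_appTop,
        ← Scheme.Hom.comp_appTop]
      refine congrArg (fun φ => (CommRingCat.Hom.hom φ) z) (congrArg Scheme.Hom.appTop ?_)
      rw [← cancel_mono V.1.ι]
      simp only [Category.assoc, Scheme.Hom.resLE_comp_ι, morphismRestrict_ι, P'.homOfLE_ι_assoc]
      rw [show P'.homOfLE (inf_le_left : R ≤ W.1) = j from rfl, ← Category.assoc j, hj,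
        IsOpenImmersion.lift_fac_assoc, Category.assoc, Category.assoc, hs, morphismRestrict_ι,
        P'.homOfLE_ι_assoc]
    · rw [← Category.assoc, hj, IsOpenImmersion.lift_fac]

end Chart

/-- the extension problem -/
def Extends : Prop := ∃ f : P' ⟶ Y, f ≫ p = β ∧ (β ⁻¹ᵁ Q).ι ≫ f = (β ∣_ Q) ≫ s

include hI' hQ in
/-- The section extends exactly when all ideals of numerators pull back into the powers of the ideal. -/
theorem extends_iff (hI : BlowUp.IsEffCartierIdeal I) :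
    Extends Q p s β ↔ ∀ n, (num I hI Q hQ p s hs n).comap β ≤ (I ^ n).comap β := by
  have hpt : ∀ x : P', ∃ (V : P.affineOpens) (W : P'.affineOpens) (t : Γ(P, V.1)),
      x ∈ W.1 ∧ W.1 ≤ β ⁻¹ᵁ V.1 ∧ I.ideal V = Ideal.span {t} := by
    intro x
    obtain ⟨V, hxV, t, -, ht⟩ := hI (β x)
    obtain ⟨W, hxW, hWV⟩ := Comap.exists_affine_le x (β ⁻¹ᵁ V.1) hxV
    exact ⟨V, W, t, hxW, hWV, ht⟩
  choose V W t hx e ht using hpt
  have hcov : ⨆ x, ((W x).1 : P'.Opens) = ⊤ := top_unique fun x _ => Opens.mem_iSup.2 ⟨x, hx x⟩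
  constructor
  · rintro ⟨f, hf, hfQ⟩ n
    refine Scheme.IdealSheafData.le_of_iSup_eq_top W hcov fun x => ?_
    refine num_le_of_range I Q hQ p s hs β hI' (V x) (W x) (e x) hI
      ((exists_lift_iff I Q hQ p s hs β hI' (V x) (W x) (e x)).1 ⟨(W x).1.ι ≫ f, ?_, ?_⟩) n
    · rw [Category.assoc, hf]
    · show _ = P'.homOfLE _ ≫ (β ∣_ Q) ≫ s
      rw [← hfQ, P'.homOfLE_ι_assoc, P'.homOfLE_ι_assoc]
  · intro h
    choose f hf hfQ using fun x => (exists_lift_iff I Q hQ p s hs β hI' (V x) (W x) (e x)).2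
      (range_of_num_le I Q hQ p s hs β (V x) (W x) (e x) hI (t x) (ht x) fun n => h n (W x))
    let 𝒰 := P'.openCoverOfIsOpenCover (fun x => (W x).1) (.mk hcov)
    have hQf : ∀ (x : P') {R : Scheme.{u}} (a : R ⟶ (W x).1.toScheme) (a' : R ⟶ (β ⁻¹ᵁ Q).toScheme),
        a ≫ (W x).1.ι = a' ≫ (β ⁻¹ᵁ Q).ι → a ≫ f x = a' ≫ (β ∣_ Q) ≫ s := by
      intro x R a a' ha
      have hr : Set.range (a ≫ (W x).1.ι) ⊆ Set.range ((W x).1 ⊓ β ⁻¹ᵁ Q).ι := by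
        rintro _ ⟨z, rfl⟩
        rw [Scheme.Opens.range_ι]
        refine ⟨(a z).2, ?_⟩
        rw [ha]
        exact (a' z).2
      let k := IsOpenImmersion.lift ((W x).1 ⊓ β ⁻¹ᵁ Q).ι _ hr
      have k1 : k ≫ P'.homOfLE inf_le_left = a := by
        rw [← cancel_mono (W x).1.ι, Category.assoc, P'.homOfLE_ι, IsOpenImmersion.lift_fac]
      have k2 : k ≫ P'.homOfLE inf_le_right = a' := by
        rw [← cancel_mono (β ⁻¹ᵁ Q).ι, Category.assoc, P'.homOfLE_ι, IsOpenImmersion.lift_fac, ha]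
      rw [← k1, Category.assoc, hfQ x, ← k2, Category.assoc]
    have hcompat : ∀ x y, pullback.fst (𝒰.f x) (𝒰.f y) ≫ f x = pullback.snd (𝒰.f x) (𝒰.f y) ≫ f y := by
      intro x y
      let j := pullback.fst (𝒰.f x) (𝒰.f y) ≫ (W x).1.ι
      haveI : IsOpenImmersion (pullback.fst (𝒰.f x) (𝒰.f y)) :=
        MorphismProperty.pullback_fst _ _ (𝒰.map_prop y)
      haveI : IsOpenImmersion j := MorphismProperty.comp_mem @IsOpenImmersion _ _ ‹_› (inferInstanceAs (IsOpenImmersion (W x).1.ι))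
      haveI : Flat j := inferInstance
      refine lift_ext I Q hQ p (j ≫ β) ?_ _ _ ((Category.assoc _ _ _).trans ((congrArg _ (hf x)).trans (Category.assoc _ _ _).symm))
        ((Category.assoc _ _ _).trans ((congrArg _ (hf y)).trans
          ((Category.assoc _ _ _).symm.trans (congrArg (· ≫ β) pullback.condition.symm)))) ?_
      · rw [Scheme.IdealSheafData.comap_comp]
        exact EffCartier.comap_of_flat j hI'
      · have hr : Set.range (((j ≫ β) ⁻¹ᵁ Q).ι ≫ j) ⊆ Set.range (β ⁻¹ᵁ Q).ι := by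
          rintro _ ⟨z, rfl⟩
          rw [Scheme.Opens.range_ι]
          exact z.2
        let k := IsOpenImmersion.lift (β ⁻¹ᵁ Q).ι _ hr
        refine (Category.assoc _ _ _).symm.trans
          ((hQf x (((j ≫ β) ⁻¹ᵁ Q).ι ≫ pullback.fst _ _) k ?_).trans
          ((hQf y (((j ≫ β) ⁻¹ᵁ Q).ι ≫ pullback.snd _ _) k ?_).symm.trans (Category.assoc _ _ _)))
        · exact (Category.assoc _ _ _).trans (IsOpenImmersion.lift_fac _ _ hr).symm
        · exact ((Category.assoc _ _ _).trans (congrArg (_ ≫ ·) pullback.condition.symm)).trans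
            (IsOpenImmersion.lift_fac _ _ hr).symm
    refine ⟨𝒰.glueMorphisms f hcompat, 𝒰.hom_ext _ _ fun x => ?_, ?_⟩
    · rw [Scheme.Cover.ι_glueMorphisms_assoc]
      exact hf x
    · refine ((β ⁻¹ᵁ Q).toScheme.openCoverOfIsOpenCover (fun x => (β ⁻¹ᵁ Q).ι ⁻¹ᵁ (W x).1)
        (.mk (top_unique fun z _ => Opens.mem_iSup.2 ⟨(β ⁻¹ᵁ Q).ι z, hx _⟩))).hom_ext _ _ fun x => ?_
      show ((β ⁻¹ᵁ Q).ι ⁻¹ᵁ (W x).1).ι ≫ (β ⁻¹ᵁ Q).ι ≫ _ = ((β ⁻¹ᵁ Q).ι ⁻¹ᵁ (W x).1).ι ≫ _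
      rw [← morphismRestrict_ι_assoc,
        show (W x).1.ι ≫ 𝒰.glueMorphisms f hcompat = f x from Scheme.Cover.ι_glueMorphisms 𝒰 f hcompat x]
      exact hQf x _ _ (morphismRestrict_ι _ _)

end Groth.Agent.VanFlat12.Poles
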