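import Groth.Agent.VanFlat12.Local
import Mathlib.RingTheory.Flat.Basic
import Mathlib.LinearAlgebra.TensorProduct.Pi

/-!
Descent of the vanishing ideal to an affine open of the base.
-/

set_option autoImplicit false
set_option linter.style.haveILetI false

universe u

open CategoryTheory CategoryTheory.Limits AlgebraicGeometry TopologicalSpace Opposite TensorProduct

noncomputable section

namespace Groth.Agent.VanFlat12

/-- An element killed by a jointly surjective family of flat extensions is zero. -/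
theorem eq_zero_of_cover {B : Type u} [CommRing B] {ι : Type*} (C : ι → Type u) [∀ i, CommRing (C i)]
    [∀ i, Algebra B (C i)] [∀ i, Module.Flat B (C i)]
    (hC : ∀ P : PrimeSpectrum B, ∃ i, P ∈ Set.range (PrimeSpectrum.comap (algebraMap B (C i))))
    {b : B} (h : ∀ i, algebraMap B (C i) b = 0) : b = 0 := by
  by_contra hb
  let J : Ideal B := LinearMap.ker (LinearMap.toSpanSingleton B B b)
  have hJ : J ≠ ⊤ := fun e => hb (by
    have : (1 : B) ∈ J := e ▸ Submodule.mem_top
    simpa [J] using this)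
  obtain ⟨M, hM, hJM⟩ := J.exists_le_maximal hJ
  obtain ⟨i, Q, hQ⟩ := hC ⟨M, hM.isPrime⟩
  let l : (B ⧸ J) →ₗ[B] B := J.liftQ (LinearMap.toSpanSingleton B B b) le_rfl
  have hl : Function.Injective l := LinearMap.ker_eq_bot.1 (Submodule.ker_liftQ_eq_bot _ _ _ le_rfl)
  have h1 : (1 : C i) ⊗ₜ[B] (1 : B ⧸ J) = 0 := by
    apply Module.Flat.lTensor_preserves_injective_linearMap (M := C i) l hl
    rw [LinearMap.lTensor_tmul, map_zero]
    apply (TensorProduct.rid B (C i)).injective
    rw [TensorProduct.rid_tmul, map_zero,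
      show l 1 = b from one_smul B b, Algebra.smul_def, mul_one, h i]
  have hJQ : ∀ a ∈ J, (Algebra.ofId B (C i ⧸ Q.asIdeal)) a = 0 := fun a ha => by
    show Ideal.Quotient.mk Q.asIdeal (algebraMap B (C i) a) = 0
    rw [Ideal.Quotient.eq_zero_iff_mem]
    have hMQ : M = Q.asIdeal.comap (algebraMap B (C i)) := (congrArg PrimeSpectrum.asIdeal hQ).symm
    have := hJM ha
    rw [hMQ] at this
    exact this
  let m : (C i) ⊗[B] (B ⧸ J) →ₐ[B] (C i ⧸ Q.asIdeal) :=
    Algebra.TensorProduct.lift (IsScalarTower.toAlgHom B (C i) _) (Ideal.Quotient.liftₐ J _ hJQ)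
      fun _ _ => Commute.all _ _
  have := congrArg m h1
  rw [← Algebra.TensorProduct.one_def, map_one, map_zero] at this
  haveI hnt : Nontrivial (C i ⧸ Q.asIdeal) := Ideal.Quotient.nontrivial_iff.2 Q.isPrime.ne_top
  exact one_ne_zero this

variable {Y S : Scheme.{u}} (q : Y ⟶ S) {G F : Y.Modules} (σ : G ⟶ F) [IsProper q]
  [LocallyOfFinitePresentation q] [SheafOfModules.IsFinitePresentation.{u} F] [G.IsQuasicoherent]
  (hfl : FlatMod.IsFlatOver q F)

include hfl in
/-- Over an affine open of the base the vanishing locus is cut out by an ideal. -/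
theorem exists_affine {U : S.Opens} (hU : IsAffineOpen U) :
    ∃ J : Ideal Γ(S, U), ∀ (B : Type u) [CommRing B] [Algebra Γ(S, U) B],
      Van q σ (cR hU B) ↔ J ≤ RingHom.ker (algebraMap Γ(S, U) B) := by
  classical
  choose R iR aR eR P I hPp hI using fun p : PrimeSpectrum Γ(S, U) =>
    exists_local (hU := hU) (q := q) (σ := σ) (hfl := hfl) (p := p.asIdeal)
  have hopen : ∀ p, IsOpen (Set.range (PrimeSpectrum.comap (algebraMap Γ(S, U) (R p)))) := fun p => by
    haveI : Etale (Spec.map (CommRingCat.ofHom (algebraMap Γ(S, U) (R p)))) :=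
      (HasRingHomProperty.Spec_iff (P := @Etale)).2 (RingHom.etale_algebraMap.2 inferInstance)
    exact (Spec.map (CommRingCat.ofHom (algebraMap Γ(S, U) (R p)))).isOpenMap.isOpen_range
  obtain ⟨t, ht⟩ := isCompact_univ.elim_finite_subcover _ hopen fun p _ =>
    Set.mem_iUnion.2 ⟨p, P p, PrimeSpectrum.ext (hPp p)⟩
  let J : Ideal Γ(S, U) := ⨅ l : t, (I l).comap (algebraMap Γ(S, U) (R l))
  refine ⟨J, fun B _ _ => ?_⟩
  let C : t → Type u := fun l => B ⊗[Γ(S, U)] R l
  haveI : ∀ l, Module.Flat B (C l) := fun l =>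
    inferInstanceAs (Module.Flat B (B ⊗[Γ(S, U)] R l))
  have hcov : ∀ Q : PrimeSpectrum B, ∃ l, Q ∈ Set.range (PrimeSpectrum.comap (algebraMap B (C l))) := by
    intro Q
    obtain ⟨l, hl, P', hP'⟩ := Set.mem_iUnion₂.1
      (ht (Set.mem_univ (PrimeSpectrum.comap (algebraMap Γ(S, U) B) Q)))
    have sq := isPullback_SpecMap_of_isPushout _ _ _ _
      (CommRingCat.isPushout_tensorProduct Γ(S, U) B (R l))
    obtain ⟨c, hc, -⟩ := Scheme.exists_preimage_of_isPullback sq Q P' hP'.symm
    exact ⟨⟨l, hl⟩, c, hc⟩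
  have hloc : ∀ l : t, (Van q σ (cR hU (C l)) ↔
      I l ≤ RingHom.ker (Algebra.TensorProduct.includeRight : R l →ₐ[Γ(S, U)] C l)) :=
    fun l => hI l (C l) _
  have ha : ∀ l : t, Spec.map (CommRingCat.ofHom (algebraMap B (C l))) ≫ cR hU B = cR hU (C l) :=
    fun l => cR_comp hU (Algebra.TensorProduct.includeLeft : B →ₐ[Γ(S, U)] C l)
  constructor
  · intro h a haJ
    refine eq_zero_of_cover C hcov fun l => ?_
    have h1 : Van q σ (cR hU (C l)) := ha l ▸ van_comp q σ _ _ h
    have h2 := (hloc l).1 h1 ((Submodule.mem_iInf _).1 haJ l)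
    rw [RingHom.mem_ker, AlgHom.commutes] at h2
    rw [← IsScalarTower.algebraMap_apply Γ(S, U) B (C l)]
    exact h2
  · intro h
    refine van_of_cover q σ _ fun Q => ?_
    obtain ⟨l, hl⟩ := hcov Q
    refine ⟨_, Spec.map (CommRingCat.ofHom (algebraMap B (C l))), ?_, hl, ?_⟩
    · exact (HasRingHomProperty.Spec_iff (P := @Flat)).2 (RingHom.flat_algebraMap_iff.2 inferInstance)
    rw [ha l]
    refine (hloc l).2 fun x hx => ?_
    -- `x` dies in `R l ⊗ A/J`
    let Lp : (Γ(S, U) ⧸ J) →ₐ[Γ(S, U)] ∀ m : t, R m ⧸ I m :=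
      Ideal.Quotient.liftₐ J (Pi.algHom Γ(S, U) (fun m : t => R m ⧸ I m) fun m => Algebra.ofId _ _) fun a haJ => by
        funext m
        exact Ideal.Quotient.eq_zero_iff_mem.2 ((Submodule.mem_iInf _).1 haJ m)
    have hLp : Function.Injective Lp.toLinearMap := by
      rw [injective_iff_map_eq_zero]
      intro a
      obtain ⟨a, rfl⟩ := Ideal.Quotient.mk_surjective a
      intro ha0
      rw [Ideal.Quotient.eq_zero_iff_mem]
      exact (Submodule.mem_iInf _).2 fun m => Ideal.mem_comap.2 (Ideal.Quotient.eq_zero_iff_mem.1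
        (show Ideal.Quotient.mk (I m) (algebraMap Γ(S, U) (R m) a) = 0 from congrFun ha0 m))
    have hx0 : (x : R l) ⊗ₜ[Γ(S, U)] (1 : Γ(S, U) ⧸ J) = 0 := by
      apply Module.Flat.lTensor_preserves_injective_linearMap (M := R l) _ hLp
      apply (TensorProduct.piRight Γ(S, U) Γ(S, U) (R l) fun m : t => R m ⧸ I m).injective
      rw [LinearMap.lTensor_tmul, map_zero, map_zero]
      funext m
      simp only [AlgHom.toLinearMap_apply, map_one, TensorProduct.piRight_apply,
        TensorProduct.piRightHom_tmul, Pi.one_apply, Pi.zero_apply]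
      have hm : Van q σ (cR hU (R l ⊗[Γ(S, U)] (R m ⧸ I m))) :=
        (hI m _ ((Algebra.TensorProduct.includeRight).comp (Ideal.Quotient.mkₐ Γ(S, U) (I m)))).2
          fun y hy => by
          rw [RingHom.mem_ker, AlgHom.comp_apply, Ideal.Quotient.mkₐ_eq_mk,
            Ideal.Quotient.eq_zero_iff_mem.2 hy, map_zero]
      exact (hI l _ (Algebra.TensorProduct.includeLeft : R l →ₐ[Γ(S, U)] R l ⊗[Γ(S, U)] (R m ⧸ I m))).1 hm hx
    let χ : R l ⊗[Γ(S, U)] (Γ(S, U) ⧸ J) →ₐ[Γ(S, U)] C l :=
      Algebra.TensorProduct.lift Algebra.TensorProduct.includeRight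
        ((Algebra.TensorProduct.includeLeft : B →ₐ[Γ(S, U)] C l).comp
          (Ideal.Quotient.liftₐ J (Algebra.ofId Γ(S, U) B) fun a haJ => h haJ))
        fun _ _ => Commute.all _ _
    have := congrArg χ hx0
    rw [Algebra.TensorProduct.lift_tmul, map_one, mul_one, map_zero] at this
    exact this

end Groth.Agent.VanFlat12
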