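import Groth.Agent.LimTop.PullSec
import Groth.Agent.PullStalk.Basic
import Mathlib.RingTheory.Flat.FaithfullyFlat.Algebra
import Mathlib.AlgebraicGeometry.Morphisms.Flat

/-!
Vanishing of pullbacks of homomorphisms of modules: descent along flat covers, criterion on affine charts.
-/

set_option autoImplicit false
set_option linter.style.haveILetI false

universe u

open CategoryTheory CategoryTheory.Limits AlgebraicGeometry TopologicalSpace Opposite TensorProduct

noncomputable section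

namespace Groth.Agent.VanFlat12

open Groth.Agent Groth.Agent.PullStalk.Sky Groth.Agent.PullStalk.Basic

variable {X Y Z : Scheme.{u}}

theorem pullback_map_comp_iff {M N : Z.Modules} (a : X ⟶ Y) (b : Y ⟶ Z) (h : M ⟶ N) :
    (Scheme.Modules.pullback (a ≫ b)).map h = 0 ↔
      (Scheme.Modules.pullback a).map ((Scheme.Modules.pullback b).map h) = 0 := by
  rw [← NatIso.naturality_1 (Scheme.Modules.pullbackComp a b) h,
    Preadditive.IsIso.comp_left_eq_zero, Preadditive.IsIso.comp_right_eq_zero]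
  rfl

theorem pullback_map_eq_zero_of_fac {M N : Z.Modules} {a : X ⟶ Y} {b : Y ⟶ Z} {c : X ⟶ Z}
    (hc : a ≫ b = c) (h : M ⟶ N) (h0 : (Scheme.Modules.pullback b).map h = 0) :
    (Scheme.Modules.pullback c).map h = 0 := by
  subst hc
  rw [pullback_map_comp_iff, h0]
  exact Functor.map_zero _ _ _

/-- the map on stalks -/
abbrev stk {M N : X.Modules} (φ : M ⟶ N) (x : X) : M.presheaf.stalk x →+ N.presheaf.stalk x :=
  ((TopCat.Presheaf.stalkFunctor AddCommGrpCat.{u} x).map φ.mapPresheaf).hom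

theorem stk_germM {M N : X.Modules} (φ : M ⟶ N) (U : X.Opens) (x : X) (hx : x ∈ U) (m : Γ(M, U)) :
    stk φ x (germM M U x hx m) = germM N U x hx (φ.app U m) :=
  TopCat.Presheaf.stalkFunctor_map_germ_apply U x hx φ.mapPresheaf m

theorem stk_unitStalkHom {M N : Y.Modules} (v : M ⟶ N) (f : X ⟶ Y) (t : X)
    (e : M.presheaf.stalk (f t)) :
    stk ((Scheme.Modules.pullback f).map v) t (unitStalkHom f M t e) =
      unitStalkHom f N t (stk v (f t) e) := by
  obtain ⟨W, hW, s, rfl⟩ := exists_germM_eq M (f t) e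
  refine (congrArg _ (unitStalkHom_germ f M t W hW s)).trans ?_
  refine (stk_germM _ (f ⁻¹ᵁ W) t hW _).trans ?_
  refine Eq.trans ?_ (congrArg _ (stk_germM v W (f t) hW s)).symm
  refine Eq.trans ?_ (unitStalkHom_germ f N t W hW _).symm
  refine congrArg _ ?_
  exact (ConcreteCategory.congr_hom (congrArg (fun φ => Scheme.Modules.Hom.app φ W)
    ((Scheme.Modules.pullbackPushforwardAdjunction f).unit.naturality v)) s).symm

theorem unitStalkHom_injective (f : X ⟶ Y) [Flat f] (M : Y.Modules) (t : X) :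
    Function.Injective (unitStalkHom f M t) := by
  algebraize [(f.stalkMap t).hom]
  letI := moduleOver f M t
  haveI : IsScalarTower (Y.presheaf.stalk (f t)) (X.presheaf.stalk t)
      (((Scheme.Modules.pullback f).obj M).presheaf.stalk t) :=
    IsScalarTower.of_algebraMap_smul fun _ _ => rfl
  haveI : Module.Flat (Y.presheaf.stalk (f t)) (X.presheaf.stalk t) := Flat.stalkMap f t
  haveI : IsLocalHom (algebraMap (Y.presheaf.stalk (f t)) (X.presheaf.stalk t)) :=
    inferInstanceAs (IsLocalHom (f.stalkMap t).hom)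
  haveI : Module.FaithfullyFlat (Y.presheaf.stalk (f t)) (X.presheaf.stalk t) :=
    Module.FaithfullyFlat.of_flat_of_isLocalHom
  intro a b hab
  have hb := isBaseChange_unitStalk f M t
  have h2 : hb.equiv ((1 : X.presheaf.stalk t) ⊗ₜ[Y.presheaf.stalk (f t)] a) = hb.equiv (1 ⊗ₜ b) := by
    rw [hb.equiv_tmul, hb.equiv_tmul, one_smul, one_smul]
    exact hab
  exact Module.FaithfullyFlat.tensorProduct_mk_injective _ (hb.equiv.injective h2)

/-- Vanishing descends along jointly surjective families of flat morphisms. -/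
theorem eq_zero_of_flat_cover {M N : Y.Modules} (φ : M ⟶ N)
    (H : ∀ y : Y, ∃ (W : Scheme.{u}) (π : W ⟶ Y), Flat π ∧ y ∈ Set.range π ∧
      (Scheme.Modules.pullback π).map φ = 0) : φ = 0 := by
  refine Scheme.Modules.hom_ext φ 0 fun U => ?_
  ext s
  show φ.app U s = (0 : M ⟶ N).app U s
  refine TopCat.Presheaf.section_ext ⟨N.presheaf, N.isSheaf⟩ U _ _ fun y hy => ?_
  obtain ⟨W, π, hπ, ⟨t, rfl⟩, h0⟩ := H y
  change germM N U (π t) hy (φ.app U s) = germM N U (π t) hy ((0 : M ⟶ N).app U s)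
  apply unitStalkHom_injective π N t
  have key : unitStalkHom π N t (germM N U (π t) hy (φ.app U s)) = 0 := by
    rw [← stk_germM φ U (π t) hy s, ← stk_unitStalkHom, h0]
    obtain ⟨V, hV, m, hm⟩ := exists_germM_eq _ t (unitStalkHom π M t (germM M U (π t) hy s))
    rw [← hm, stk_germM]
    exact map_zero (((Scheme.Modules.pullback π).obj N).presheaf.germ V t hV).hom
  refine key.trans (Eq.symm ?_)
  refine Eq.trans (congrArg _ (show germM N U (π t) hy ((0 : M ⟶ N).app U s) = 0 from
    map_zero (N.presheaf.germ U (π t) hy).hom)) ?_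
  exact map_zero (unitStalkHom π N t).hom

/-- A map out of a quasi-coherent module that vanishes on affine opens is zero. -/
theorem hom_eq_zero_of_affine {M N : X.Modules} (φ : M ⟶ N)
    (h : ∀ (U : X.Opens), IsAffineOpen U → ∀ z : Γ(M, U), φ.app U z = 0) : φ = 0 := by
  apply Scheme.Modules.hom_ext
  intro W
  ext s
  have hpt : ∀ w : W, ∃ U : X.Opens, IsAffineOpen U ∧ (w : X) ∈ U ∧ U ≤ W := fun w => by
    obtain ⟨U, hU, hw, hle⟩ := exists_isAffineOpen_mem_and_subset w.2
    exact ⟨U, hU, hw, hle⟩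
  choose U hU hwU hUW using hpt
  refine QCoh.eq_zero_of_locally_eq_zero N hUW
    (fun w hw => Opens.mem_iSup.mpr ⟨⟨w, hw⟩, hwU ⟨w, hw⟩⟩) _ fun w => ?_
  exact (QCoh.app_res φ (hUW w) s).symm.trans (h (U w) (hU w) _)

section Chart

variable (G F : Y.Modules) [G.IsQuasicoherent] [F.IsQuasicoherent] (σ : G ⟶ F)

/-- Criterion for the vanishing of the pullback of `σ` to an affine scheme over an affine chart. -/
theorem pullback_map_eq_zero_iff_of_chart {V : Y.Opens} (hV : IsAffineOpen V) (C : Type u)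
    [CommRing C] [Algebra Γ(Y, V) C] :
    (Scheme.Modules.pullback
        (Spec.map (CommRingCat.ofHom (algebraMap Γ(Y, V) C)) ≫ hV.fromSpec)).map σ = 0 ↔
      ∀ s : Γ(G, V), (1 : C) ⊗ₜ[Γ(Y, V)] (σ.app V s) = 0 := by
  let f := CommRingCat.ofHom (algebraMap Γ(Y, V) C)
  let h := Spec.map f ≫ hV.fromSpec
  have hle : ∀ W : (Spec (CommRingCat.of C)).Opens, W ≤ h ⁻¹ᵁ V := fun W x _ => by
    show hV.fromSpec (Spec.map f x) ∈ V
    exact hV.range_fromSpec.le ⟨_, rfl⟩
  have key : (Scheme.Modules.pullback h).map σ = 0 ↔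
      ∀ s : Γ(G, V), LimTop.unitSec h F (hle ⊤) (σ.app V s) = 0 := by
    refine ⟨fun h0 s => ?_, fun h0 => hom_eq_zero_of_affine _ fun W hW z => ?_⟩
    · rw [← LimTop.unitSec_map, h0]
      rfl
    · letI := (h.appLE V W (hle W)).hom.toAlgebra
      letI := LimTop.secModule h G (hle W)
      haveI : IsScalarTower Γ(Y, V) Γ(Spec (CommRingCat.of C), W)
          Γ((Scheme.Modules.pullback h).obj G, W) := IsScalarTower.of_algebraMap_smul fun _ _ => rfl
      refine (LimTop.isBaseChange_unitSec h G (hle W) hV hW).inductionOn z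
        (motive := fun z => ((Scheme.Modules.pullback h).map σ).app W z = 0) (map_zero _) ?_ ?_ ?_
      · intro s
        show ((Scheme.Modules.pullback h).map σ).app W (LimTop.unitSec h G (hle W) s) = 0
        rw [LimTop.unitSec_map, ← LimTop.res_unitSec h F (hle ⊤) (le_top : W ≤ ⊤), h0 s]
        exact map_zero _
      · intro r x hx
        rw [Scheme.Modules.Hom.app_smul, hx, smul_zero]
      · intro x y hx hy
        rw [map_add, hx, hy, add_zero]
  refine key.trans (forall_congr' fun s => ?_)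
  letI := (h.appLE V ⊤ (hle ⊤)).hom.toAlgebra
  letI := LimTop.secModule h F (hle ⊤)
  haveI : IsScalarTower Γ(Y, V) Γ(Spec (CommRingCat.of C), ⊤)
      Γ((Scheme.Modules.pullback h).obj F, ⊤) := IsScalarTower.of_algebraMap_smul fun _ _ => rfl
  have hb := LimTop.isBaseChange_unitSec h F (hle ⊤) hV (isAffineOpen_top _)
  have e1 : hb.equiv ((1 : Γ(Spec (CommRingCat.of C), ⊤)) ⊗ₜ (σ.app V s)) =
      LimTop.unitSec h F (hle ⊤) (σ.app V s) := by
    rw [hb.equiv_tmul, one_smul]
    rfl
  have happ : h.appLE V ⊤ (hle ⊤) = f ≫ (Scheme.ΓSpecIso (CommRingCat.of C)).inv := by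
    show (Spec.map f ≫ hV.fromSpec).appLE V ⊤ _ = _
    rw [Scheme.Hom.comp_appLE, hV.fromSpec_app_self, Category.assoc, Scheme.Hom.map_appLE,
      Scheme.ΓSpecIso_inv_naturality]
    refine congrArg _ ?_
    show (Spec.map f).app ⊤ ≫ (Spec (CommRingCat.of C)).presheaf.map _ = (Spec.map f).app ⊤
    exact (congrArg _ ((Spec (CommRingCat.of C)).presheaf.map_id _)).trans (Category.comp_id _)
  let e : C ≃ₐ[Γ(Y, V)] Γ(Spec (CommRingCat.of C), ⊤) :=
    AlgEquiv.ofRingEquiv (f := (Scheme.ΓSpecIso (CommRingCat.of C)).symm.commRingCatIsoToRingEquiv)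
      fun x => (RingHom.congr_fun (congrArg CommRingCat.Hom.hom happ) x).symm
  have e2 : TensorProduct.congr e.toLinearEquiv (LinearEquiv.refl Γ(Y, V) Γ(F, V))
      ((1 : C) ⊗ₜ (σ.app V s)) = (1 : Γ(Spec (CommRingCat.of C), ⊤)) ⊗ₜ (σ.app V s) := by
    rw [TensorProduct.congr_tmul]
    exact congrArg (fun a => a ⊗ₜ[Γ(Y, V)] (σ.app V s)) (map_one e)
  rw [← e1, LinearEquiv.map_eq_zero_iff, ← e2, LinearEquiv.map_eq_zero_iff]

end Chart

section Content

variable {R M : Type u} [CommRing R] [AddCommGroup M] [Module R M]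

/-- An element of a projective module dies in a base change exactly when its content does. -/
theorem exists_content [Module.Projective R M] (X : Set M) :
    ∃ I : Ideal R, ∀ (B : Type u) [CommRing B] [Algebra R B],
      (∀ x ∈ X, (1 : B) ⊗ₜ[R] x = 0) ↔ I ≤ RingHom.ker (algebraMap R B) := by
  obtain ⟨i, hi⟩ := Module.Projective.out (R := R) (P := M)
  refine ⟨Ideal.span (⋃ x ∈ X, Set.range (i x)), fun B _ _ => ⟨fun h => ?_, fun h x hx => ?_⟩⟩
  · rw [Ideal.span_le]
    rintro _ ha
    simp only [Set.mem_iUnion, Set.mem_range] at ha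
    obtain ⟨x, hx, m, rfl⟩ := ha
    let c : M →ₗ[R] R := (Finsupp.lapply m).comp i
    have := congrArg ((TensorProduct.rid R B).toLinearMap ∘ₗ c.lTensor B) (h x hx)
    simpa [c, Algebra.smul_def] using this
  · have hx' : Finsupp.linearCombination R id (i x) = x := hi x
    rw [← hx', Finsupp.linearCombination_apply, Finsupp.sum, TensorProduct.tmul_sum]
    refine Finset.sum_eq_zero fun m _ => ?_
    have : algebraMap R B (i x m) = 0 :=
      h (Ideal.subset_span (Set.mem_biUnion hx ⟨m, rfl⟩))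
    rw [id, TensorProduct.tmul_smul, TensorProduct.smul_tmul', Algebra.smul_def, this, zero_mul,
      TensorProduct.zero_tmul]

/-- The content criterion after the change of rings `S' ⊗_R B`. -/
theorem tmul_eq_zero_iff {S S' N : Type u} [CommRing S] [CommRing S'] [Algebra R S'] [Algebra S S']
    [AddCommGroup N] [Module S N] (B : Type u) [CommRing B] [Algebra R B] (x : N) :
    (1 : S' ⊗[R] B) ⊗ₜ[S] x = 0 ↔ (1 : B) ⊗ₜ[R] ((1 : S') ⊗ₜ[S] x) = 0 := by
  let e1 := TensorProduct.AlgebraTensorModule.cancelBaseChange S S' S' (S' ⊗[R] B) N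
  let e2 := TensorProduct.comm S' (S' ⊗[R] B) (S' ⊗[S] N)
  let e3 := TensorProduct.AlgebraTensorModule.cancelBaseChange R S' S' (S' ⊗[S] N) B
  let e4 := TensorProduct.comm R (S' ⊗[S] N) B
  have h1 : e1.symm ((1 : S' ⊗[R] B) ⊗ₜ[S] x) = (1 : S' ⊗[R] B) ⊗ₜ[S'] ((1 : S') ⊗ₜ[S] x) := by
    rw [LinearEquiv.symm_apply_eq]; simp [e1]
  have h : e4 (e3 (e2 (e1.symm ((1 : S' ⊗[R] B) ⊗ₜ[S] x)))) = (1 : B) ⊗ₜ[R] ((1 : S') ⊗ₜ[S] x) := by
    rw [h1]; simp [e2, e3, e4, Algebra.TensorProduct.one_def]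
  rw [← h, LinearEquiv.map_eq_zero_iff, LinearEquiv.map_eq_zero_iff, LinearEquiv.map_eq_zero_iff,
    LinearEquiv.map_eq_zero_iff]

end Content

end Groth.Agent.VanFlat12
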