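import Groth.Agent.VanFlat12.Basic
import Groth.Agent.S1202
import Groth.Agent.Props.QFP
import Groth.Agent.FlatSect.Basic
import Mathlib.AlgebraicGeometry.Morphisms.Etale
import Mathlib.AlgebraicGeometry.Morphisms.Proper
import Mathlib.AlgebraicGeometry.Morphisms.UniversallyOpen

/-!
The vanishing locus of a homomorphism into a flat module, etale locally on the base of a proper morphism.
-/

set_option autoImplicit false
set_option linter.style.haveILetI false

universe u

open CategoryTheory CategoryTheory.Limits AlgebraicGeometry TopologicalSpace Opposite TensorProduct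

noncomputable section

namespace Groth.Agent.VanFlat12

variable {Y S : Scheme.{u}} (q : Y ⟶ S) {G F : Y.Modules} (σ : G ⟶ F)

/-- the pullback of `σ` along `g` vanishes -/
def Van {T : Scheme.{u}} (g : T ⟶ S) : Prop :=
  (Scheme.Modules.pullback (pullback.fst q g)).map σ = 0

/-- the map of base changes -/
abbrev bcMap {T T' : Scheme.{u}} (a : T' ⟶ T) (g : T ⟶ S) : pullback q (a ≫ g) ⟶ pullback q g :=
  pullback.lift (pullback.fst _ _) (pullback.snd _ _ ≫ a) (by simp [pullback.condition])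

theorem isPullback_bcMap {T T' : Scheme.{u}} (a : T' ⟶ T) (g : T ⟶ S) :
    IsPullback (bcMap q a g) (pullback.snd q (a ≫ g)) (pullback.snd q g) a :=
  IsPullback.of_right (by rw [pullback.lift_fst]; exact IsPullback.of_hasPullback q (a ≫ g))
    (pullback.lift_snd _ _ _) (IsPullback.of_hasPullback q g)

theorem van_comp {T T' : Scheme.{u}} (a : T' ⟶ T) (g : T ⟶ S) (h : Van q σ g) : Van q σ (a ≫ g) :=
  pullback_map_eq_zero_of_fac (a := bcMap q a g) (pullback.lift_fst _ _ _) σ h

/-- Vanishing descends along jointly surjective flat families over the base. -/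
theorem van_of_cover {T : Scheme.{u}} (g : T ⟶ S)
    (H : ∀ t : T, ∃ (T' : Scheme.{u}) (a : T' ⟶ T), Flat a ∧ t ∈ Set.range a ∧ Van q σ (a ≫ g)) :
    Van q σ g := by
  refine eq_zero_of_flat_cover _ fun y => ?_
  obtain ⟨T', a, ha, ⟨x, hx⟩, h0⟩ := H (pullback.snd q g y)
  have sq := isPullback_bcMap q a g
  obtain ⟨z, hz, -⟩ := Scheme.exists_preimage_of_isPullback sq y x hx.symm
  refine ⟨_, bcMap q a g, MorphismProperty.of_isPullback sq.flip ha, ⟨z, hz⟩, ?_⟩
  rw [← pullback_map_comp_iff, pullback.lift_fst]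
  exact h0

section Local

variable {U : S.Opens} (hU : IsAffineOpen U)

/-- a ring over `U`, as a scheme over `S` -/
abbrev cR (R : Type u) [CommRing R] [Algebra Γ(S, U) R] : Spec (CommRingCat.of R) ⟶ S :=
  Spec.map (CommRingCat.ofHom (algebraMap Γ(S, U) R)) ≫ hU.fromSpec

variable {R R' : Type u} [CommRing R] [CommRing R'] [Algebra Γ(S, U) R] [Algebra Γ(S, U) R']

theorem cR_comp (φ : R →ₐ[Γ(S, U)] R') :
    Spec.map (CommRingCat.ofHom φ.toRingHom) ≫ cR hU R = cR hU R' := by
  rw [← Category.assoc, ← Spec.map_comp, ← CommRingCat.ofHom_comp]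
  exact congrArg (fun f => Spec.map (CommRingCat.ofHom f) ≫ hU.fromSpec) φ.comp_algebraMap

/-- the map of base changes along a ring map -/
abbrev bcR (φ : R →ₐ[Γ(S, U)] R') : pullback q (cR hU R') ⟶ pullback q (cR hU R) :=
  pullback.lift (pullback.fst _ _) (pullback.snd _ _ ≫ Spec.map (CommRingCat.ofHom φ.toRingHom))
    (by rw [Category.assoc, cR_comp, pullback.condition])

theorem isPullback_bcR (φ : R →ₐ[Γ(S, U)] R') :
    IsPullback (bcR q hU φ) (pullback.snd q (cR hU R')) (pullback.snd q (cR hU R))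
      (Spec.map (CommRingCat.ofHom φ.toRingHom)) :=
  IsPullback.of_right
    (by rw [pullback.lift_fst, cR_comp]; exact IsPullback.of_hasPullback q (cR hU R'))
    (pullback.lift_snd _ _ _) (IsPullback.of_hasPullback q (cR hU R))

theorem bcR_comp {R'' : Type u} [CommRing R''] [Algebra Γ(S, U) R''] (φ : R →ₐ[Γ(S, U)] R')
    (χ : R' →ₐ[Γ(S, U)] R'') : bcR q hU χ ≫ bcR q hU φ = bcR q hU (χ.comp φ) := by
  apply pullback.hom_ext
  · simp only [Category.assoc, pullback.lift_fst]
  · simp only [Category.assoc, pullback.lift_snd, pullback.lift_snd_assoc]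
    rw [← Spec.map_comp, ← CommRingCat.ofHom_comp]
    rfl

/-- An etale neighbourhood on the base and a chart upstairs on which `F` becomes projective. -/
structure Nhd (F : Y.Modules) (p : Ideal Γ(S, U)) [p.IsPrime] where
  V : Y.Opens
  hV : IsAffineOpen V
  e : V ≤ q ⁻¹ᵁ U
  R : Type u
  S' : Type u
  [instR : CommRing R]
  [instS : CommRing S']
  [algR : Algebra Γ(S, U) R]
  [algS : Algebra Γ(Y, V) S']
  [algRS : Algebra R S']
  [etR : Algebra.Etale Γ(S, U) R]
  [etS : Algebra.Etale Γ(Y, V) S']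
  comm : (algebraMap R S').comp (algebraMap Γ(S, U) R) =
    (algebraMap Γ(Y, V) S').comp (q.appLE U V e).hom
  proj : Module.Projective R (S' ⊗[Γ(Y, V)] Γ(F, V))
  ψ : R →ₐ[Γ(S, U)] p.ResidueField

attribute [instance] Nhd.instR Nhd.instS Nhd.algR Nhd.algS Nhd.algRS Nhd.etR Nhd.etS

variable {q} {p : Ideal Γ(S, U)} [p.IsPrime] (n : Nhd q F p)

/-- the chart of a neighbourhood, in the base change -/
def Nhd.w : Spec (CommRingCat.of n.S') ⟶ pullback q (cR hU n.R) :=
  pullback.lift (Spec.map (CommRingCat.ofHom (algebraMap Γ(Y, n.V) n.S')) ≫ n.hV.fromSpec)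
    (Spec.map (CommRingCat.ofHom (algebraMap n.R n.S'))) (by
      rw [Category.assoc, ← hU.SpecMap_appLE_fromSpec q n.hV n.e, ← Spec.map_comp_assoc,
        ← Spec.map_comp_assoc]
      exact congrArg (fun f => Spec.map (CommRingCat.ofHom f) ≫ hU.fromSpec) n.comm.symm)

omit [p.IsPrime] in
theorem etale_cR (R : Type u) [CommRing R] [Algebra Γ(S, U) R] [Algebra.Etale Γ(S, U) R] :
    Etale (cR hU R) := by
  haveI : Etale (Spec.map (CommRingCat.ofHom (algebraMap Γ(S, U) R))) :=
    (HasRingHomProperty.Spec_iff (P := @Etale)).2 (RingHom.etale_algebraMap.2 inferInstance)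
  infer_instance

theorem Nhd.etale_w : Etale (n.w hU) := by
  haveI : Etale (cR hU n.R) := etale_cR hU n.R
  haveI : Etale (pullback.fst q (cR hU n.R)) := MorphismProperty.pullback_fst _ _ ‹_›
  haveI : Etale (Spec.map (CommRingCat.ofHom (algebraMap Γ(Y, n.V) n.S'))) :=
    (HasRingHomProperty.Spec_iff (P := @Etale)).2 (RingHom.etale_algebraMap.2 inferInstance)
  haveI : Etale (n.w hU ≫ pullback.fst q (cR hU n.R)) := by
    rw [Nhd.w, pullback.lift_fst]; infer_instance
  exact Etale.of_comp _ (pullback.fst q (cR hU n.R))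

variable (F)

theorem isPreimmersion_point (p : Ideal Γ(S, U)) [p.IsPrime] :
    IsPreimmersion (cR hU p.ResidueField) := by
  haveI : IsPreimmersion
      (Spec.map (CommRingCat.ofHom (algebraMap (Γ(S, U) ⧸ p) p.ResidueField))) :=
    IsPreimmersion.of_isLocalization (nonZeroDivisors (Γ(S, U) ⧸ p))
  haveI : IsClosedImmersion
      (Spec.map (CommRingCat.ofHom (algebraMap Γ(S, U) (Γ(S, U) ⧸ p)))) :=
    IsClosedImmersion.spec_of_surjective _ Ideal.Quotient.mk_surjective
  have : cR hU p.ResidueField =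
      Spec.map (CommRingCat.ofHom (algebraMap (Γ(S, U) ⧸ p) p.ResidueField)) ≫
        Spec.map (CommRingCat.ofHom (algebraMap Γ(S, U) (Γ(S, U) ⧸ p))) ≫ hU.fromSpec := by
    rw [← Spec.map_comp_assoc, ← CommRingCat.ofHom_comp, ← IsScalarTower.algebraMap_eq]
  rw [this]
  infer_instance

variable (q) [LocallyOfFinitePresentation q] [SheafOfModules.IsFinitePresentation.{u} F]
  (hfl : FlatMod.IsFlatOver q F)

include hfl in
/-- Every point of the fibre lies in the image of some neighbourhood. -/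
theorem exists_nhd (w₀ : (pullback q (cR hU p.ResidueField) : Scheme.{u})) :
    ∃ n : Nhd q F p, bcR q hU n.ψ w₀ ∈ Set.range (n.w hU) := by
  let y := pullback.fst q (cR hU p.ResidueField) w₀
  have hyU : q y ∈ U := by
    have h := congr($(pullback.condition (f := q) (g := cR hU p.ResidueField)) w₀)
    rw [Scheme.Hom.comp_apply, Scheme.Hom.comp_apply, Scheme.Hom.comp_apply] at h
    change q y ∈ U
    rw [h]
    exact hU.range_fromSpec.le ⟨_, rfl⟩
  obtain ⟨V, hV, hyV, e⟩ := exists_isAffineOpen_mem_and_subset (U := q ⁻¹ᵁ U) (x := y) hyU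
  have e : V ≤ q ⁻¹ᵁ U := e
  let P := hV.primeIdealOf ⟨y, hyV⟩
  letI := (q.appLE U V e).hom.toAlgebra
  letI : Module Γ(S, U) Γ(F, V) := Module.compHom _ (q.appLE U V e).hom
  haveI : IsScalarTower Γ(S, U) Γ(Y, V) Γ(F, V) := IsScalarTower.of_algebraMap_smul fun _ _ => rfl
  haveI : Algebra.FinitePresentation Γ(S, U) Γ(Y, V) :=
    q.finitePresentation_appLE hU hV e
  haveI := Props.QFP.finitePresentation_sections_of_isFP F hV
  haveI : Module.Flat Γ(S, U) Γ(F, V) :=
    FlatSect.flat_sections_of_isFlatOverAt q hU hV e F fun x _ => hfl x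
  -- the prime of the base under the point
  have hPp : P.asIdeal.comap (q.appLE U V e).hom = p := by
    have h1 : hU.fromSpec (Spec.map (q.appLE U V e) P) = q y := by
      rw [← Scheme.Hom.comp_apply, hU.SpecMap_appLE_fromSpec q hV e, Scheme.Hom.comp_apply,
        hV.fromSpec_primeIdealOf]
    have h2 := congr($(pullback.condition (f := q) (g := cR hU p.ResidueField)) w₀)
    rw [Scheme.Hom.comp_apply, Scheme.Hom.comp_apply, Scheme.Hom.comp_apply] at h2
    have h3 := congrArg PrimeSpectrum.asIdeal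
      (hU.fromSpec.isOpenEmbedding.injective (h1.trans h2))
    refine h3.trans ?_
    show Ideal.comap (algebraMap Γ(S, U) p.ResidueField)
      (pullback.snd q (cR hU p.ResidueField) w₀).asIdeal = p
    rw [Subsingleton.elim (α := PrimeSpectrum p.ResidueField)
      (pullback.snd q (cR hU p.ResidueField) w₀) ⟨⊥, Ideal.bot_prime⟩]
    exact Ideal.ker_algebraMap_residueField p
  haveI : P.asIdeal.LiesOver p := ⟨hPp.symm⟩
  have hflat : FlatCA.FlatAt Γ(S, U) P.asIdeal Γ(F, V) :=
    FlatMor.FlatAtBC.flat_localizedModule Γ(S, U) P.asIdeal.primeCompl Γ(F, V)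
  obtain ⟨R, S', iR, iS, aR, aS, aRS, aAS, tRS, tAS, p', q', hp', hq', ⟨etR, hover, hbij⟩,
      ⟨etS, hqover, -⟩, hlies, hproj⟩ :=
    S1202.result Γ(F, V) p P.asIdeal hflat
  let eR := AlgEquiv.ofBijective _ hbij
  let ψ : R →ₐ[Γ(S, U)] p.ResidueField :=
    eR.symm.toAlgHom.comp (IsScalarTower.toAlgHom Γ(S, U) R p'.ResidueField)
  have hproj' : Module.Projective R (S' ⊗[Γ(Y, V)] Γ(F, V)) :=
    Module.Projective.of_equiv (((RestrictScalars.addEquiv R S' (S' ⊗[Γ(Y, V)] Γ(F, V))).toLinearEquiv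
      fun a m => by rw [RestrictScalars.addEquiv_map_smul, algebraMap_smul]) :
        RestrictScalars R S' (S' ⊗[Γ(Y, V)] Γ(F, V)) ≃ₗ[R] S' ⊗[Γ(Y, V)] Γ(F, V))
  let n : Nhd q F p :=
    { V := V, hV := hV, e := e, R := R, S' := S'
      comm := by rw [← IsScalarTower.algebraMap_eq Γ(S, U) R S',
        IsScalarTower.algebraMap_eq Γ(S, U) Γ(Y, V) S']; rfl
      proj := hproj', ψ := ψ }
  refine ⟨n, ?_⟩
  let z : (pullback q (cR hU n.R) : Scheme.{u}) := n.w hU ⟨q', hq'⟩
  have hz1 : pullback.fst q (cR hU n.R) z = y := by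
    show ((n.w hU) ≫ pullback.fst _ _) ⟨q', hq'⟩ = y
    rw [Nhd.w, pullback.lift_fst, Scheme.Hom.comp_apply]
    refine (congrArg hV.fromSpec (PrimeSpectrum.ext ?_)).trans (hV.fromSpec_primeIdealOf ⟨y, hyV⟩)
    exact hqover.over.symm
  have hz2 : pullback.snd q (cR hU n.R) z = Spec.map (CommRingCat.ofHom n.ψ.toRingHom)
      (⟨⊥, Ideal.bot_prime⟩ : PrimeSpectrum p.ResidueField) := by
    show ((n.w hU) ≫ pullback.snd _ _) ⟨q', hq'⟩ = _
    rw [Nhd.w, pullback.lift_snd]
    refine PrimeSpectrum.ext (hlies.over.symm.trans ?_)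
    show p' = RingHom.ker ψ.toRingHom
    ext a
    show a ∈ p' ↔ eR.symm (algebraMap R p'.ResidueField a) = 0
    rw [EmbeddingLike.map_eq_zero_iff, Ideal.algebraMap_residueField_eq_zero]
  obtain ⟨w₁, hw₁, -⟩ := Scheme.exists_preimage_of_isPullback (isPullback_bcR q hU n.ψ) z _ hz2
  have : w₁ = w₀ := by
    haveI := isPreimmersion_point hU p
    refine (pullback.fst q (cR hU p.ResidueField)).isEmbedding.injective ?_
    show pullback.fst q (cR hU p.ResidueField) w₁ = y
    rw [← hz1, ← hw₁, ← Scheme.Hom.comp_apply, pullback.lift_fst]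
  exact ⟨⟨q', hq'⟩, by rw [← this, hw₁]⟩

omit [LocallyOfFinitePresentation q] [SheafOfModules.IsFinitePresentation.{u} F] in
/-- finitely many neighbourhoods have a common refinement -/
theorem exists_common (ns : Finset (Nhd q F p)) :
    ∃ (R : Type u) (_ : CommRing R) (_ : Algebra Γ(S, U) R) (_ : Algebra.Etale Γ(S, U) R)
      (ψ : R →ₐ[Γ(S, U)] p.ResidueField),
      ∀ n ∈ ns, ∃ φ : n.R →ₐ[Γ(S, U)] R, ψ.comp φ = n.ψ := by
  classical
  induction ns using Finset.induction_on with
  | empty => exact ⟨Γ(S, U), inferInstance, inferInstance, inferInstance, Algebra.ofId _ _, by simp⟩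
  | insert m ns _ ih =>
    obtain ⟨R, _, _, _, ψ, hψ⟩ := ih
    haveI : Algebra.Etale Γ(S, U) (R ⊗[Γ(S, U)] m.R) := Algebra.Etale.comp Γ(S, U) R _
    refine ⟨R ⊗[Γ(S, U)] m.R, inferInstance, inferInstance, inferInstance,
      Algebra.TensorProduct.lift ψ m.ψ fun _ _ => Commute.all _ _, fun n hn => ?_⟩
    rcases Finset.mem_insert.1 hn with rfl | hn
    · exact ⟨Algebra.TensorProduct.includeRight, Algebra.TensorProduct.lift_comp_includeRight _ _ fun _ _ => Commute.all _ _⟩
    · obtain ⟨φ, hφ⟩ := hψ n hn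
      exact ⟨Algebra.TensorProduct.includeLeft.comp φ, by
        rw [← AlgHom.comp_assoc, Algebra.TensorProduct.lift_comp_includeLeft, hφ]⟩

variable {F} [IsProper q] [G.IsQuasicoherent] (σ : G ⟶ F)

include hfl in
/-- Etale locally on the base the vanishing locus is cut out by an ideal. -/
theorem exists_local (p : Ideal Γ(S, U)) [p.IsPrime] :
    ∃ (R : Type u) (_ : CommRing R) (_ : Algebra Γ(S, U) R) (_ : Algebra.Etale Γ(S, U) R)
      (P : PrimeSpectrum R) (I : Ideal R), P.asIdeal.comap (algebraMap Γ(S, U) R) = p ∧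
      ∀ (B : Type u) [CommRing B] [Algebra Γ(S, U) B] (φ : R →ₐ[Γ(S, U)] B),
        Van q σ (cR hU B) ↔ I ≤ RingHom.ker φ := by
  classical
  haveI : F.IsQuasicoherent := inferInstance
  haveI hqK : IsProper (pullback.snd q (cR hU p.ResidueField)) :=
    MorphismProperty.pullback_snd _ _ inferInstance
  haveI : CompactSpace (pullback q (cR hU p.ResidueField) : Scheme.{u}) :=
    QuasiCompact.compactSpace_of_compactSpace (pullback.snd q (cR hU p.ResidueField))
  choose n hn using exists_nhd (q := q) (F := F) (hU := hU) (p := p) (hfl := hfl)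
  have hopen : ∀ w₀, IsOpen (bcR q hU (n w₀).ψ ⁻¹' Set.range ((n w₀).w hU)) := fun w₀ => by
    haveI := (n w₀).etale_w hU
    exact ((n w₀).w hU).isOpenMap.isOpen_range.preimage (bcR q hU (n w₀).ψ).continuous
  obtain ⟨s, hs⟩ := isCompact_univ.elim_finite_subcover _ hopen fun w _ =>
    Set.mem_iUnion.2 ⟨w, hn w⟩
  obtain ⟨R, _, _, _, ψ, hψ⟩ := exists_common (q := q) (F := F) (s.image n)
  choose φ hφ using hψ
  let φs : ∀ w : s, (n w).R →ₐ[Γ(S, U)] R := fun w => φ (n w) (Finset.mem_image_of_mem n w.2)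
  let O : Set (pullback q (cR hU R) : Scheme.{u}) :=
    ⋃ w : s, bcR q hU (φs w) ⁻¹' Set.range ((n w).w hU)
  have hO : IsOpen O := isOpen_iUnion fun w => by
    haveI := (n w).etale_w hU
    exact ((n w).w hU).isOpenMap.isOpen_range.preimage (bcR q hU (φs w)).continuous
  let t₀ : PrimeSpectrum R :=
    Spec.map (CommRingCat.ofHom ψ.toRingHom) (⟨⊥, Ideal.bot_prime⟩ : PrimeSpectrum p.ResidueField)
  haveI hqR : IsProper (pullback.snd q (cR hU R)) := MorphismProperty.pullback_snd _ _ inferInstance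
  have hclosed : IsClosed (pullback.snd q (cR hU R) '' Oᶜ) :=
    (pullback.snd q (cR hU R)).isClosedMap _ hO.isClosed_compl
  have ht₀ : t₀ ∈ (pullback.snd q (cR hU R) '' Oᶜ)ᶜ := by
    rintro ⟨z, hz, hzt⟩
    obtain ⟨w₀, rfl, -⟩ := Scheme.exists_preimage_of_isPullback (isPullback_bcR q hU ψ) z _ hzt
    obtain ⟨w, hw, hw0⟩ := Set.mem_iUnion₂.1 (hs (Set.mem_univ w₀))
    refine hz (Set.mem_iUnion.2 ⟨⟨w, hw⟩, ?_⟩)
    have hc : bcR q hU ψ ≫ bcR q hU (φs ⟨w, hw⟩) = bcR q hU (n w).ψ := by
      rw [bcR_comp]; exact congrArg (bcR q hU) (hφ _ _)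
    show bcR q hU (φs ⟨w, hw⟩) (bcR q hU ψ w₀) ∈ Set.range ((n w).w hU)
    rw [← Scheme.Hom.comp_apply, hc]
    exact hw0
  obtain ⟨_, ⟨g, rfl⟩, hgt, hgsub⟩ :=
    PrimeSpectrum.isTopologicalBasis_basic_opens.exists_subset_of_mem_open ht₀ hclosed.isOpen_compl
  let R' := Localization.Away g
  haveI : Algebra.Etale R R' := Algebra.Etale.of_isLocalizationAway g
  haveI : Algebra.Etale Γ(S, U) R' := Algebra.Etale.comp Γ(S, U) R R'
  let ι : R →ₐ[Γ(S, U)] R' := IsScalarTower.toAlgHom _ _ _
  obtain ⟨P, hP⟩ : t₀ ∈ Set.range (PrimeSpectrum.comap (algebraMap R R')) :=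
    (PrimeSpectrum.localization_away_comap_range R' g).symm ▸ hgt
  have hI : ∀ w : s, ∃ J : Ideal (n w).R, ∀ (B : Type u) [CommRing B] [Algebra (n w).R B],
      (∀ x ∈ Set.range fun m : Γ(G, (n w).V) => (1 : (n w).S') ⊗ₜ[Γ(Y, (n w).V)] σ.app (n w).V m,
        (1 : B) ⊗ₜ[(n w).R] x = 0) ↔ J ≤ RingHom.ker (algebraMap (n w).R B) := fun w =>
    haveI := (n w).proj
    exists_content _
  choose J hJ using hI
  refine ⟨R', inferInstance, inferInstance, inferInstance, P,
    ⨆ w : s, (J w).map (ι.comp (φs w)), ?_, fun B _ _ χ => ?_⟩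
  · rw [IsScalarTower.algebraMap_eq Γ(S, U) R R', ← Ideal.comap_comap,
      show P.asIdeal.comap (algebraMap R R') = t₀.asIdeal from congrArg PrimeSpectrum.asIdeal hP]
    show ((RingHom.ker ψ.toRingHom).comap (algebraMap Γ(S, U) R)) = p
    rw [RingHom.comap_ker, show ψ.toRingHom.comp (algebraMap Γ(S, U) R) = algebraMap Γ(S, U) p.ResidueField from
      ψ.comp_algebraMap]
    exact Ideal.ker_algebraMap_residueField p
  rw [iSup_le_iff]
  simp only [Ideal.map_le_iff_le_comap]
  let χs : ∀ w : s, (n w).R →ₐ[Γ(S, U)] B := fun w => χ.comp (ι.comp (φs w))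
  -- the charts of the base change
  have chart : ∀ w : s, ∃ (W : Scheme.{u}) (π : W ⟶ pullback q (cR hU B)),
      Flat π ∧ bcR q hU (χs w) ⁻¹' Set.range ((n w).w hU) ⊆ Set.range π ∧
      ((Scheme.Modules.pullback π).map ((Scheme.Modules.pullback (pullback.fst q (cR hU B))).map σ) = 0
        ↔ J w ≤ RingHom.ker (χs w)) := by
    intro w
    letI := (χs w).toRingHom.toAlgebra
    let C := (n w).S' ⊗[(n w).R] B
    have sqC : IsPullback (Spec.map (CommRingCat.ofHom
          (Algebra.TensorProduct.includeLeftRingHom : (n w).S' →+* C)))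
        (Spec.map (CommRingCat.ofHom (Algebra.TensorProduct.includeRight (R := (n w).R)
          (A := (n w).S') (B := B)).toRingHom))
        (Spec.map (CommRingCat.ofHom (algebraMap (n w).R (n w).S')))
        (Spec.map (CommRingCat.ofHom (χs w).toRingHom)) :=
      isPullback_SpecMap_of_isPushout _ _ _ _ (CommRingCat.isPushout_tensorProduct _ _ _)
    have hsq : Spec.map (CommRingCat.ofHom
          (Algebra.TensorProduct.includeLeftRingHom : (n w).S' →+* C)) ≫ (n w).w hU ≫
          pullback.snd q (cR hU (n w).R) =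
        Spec.map (CommRingCat.ofHom (Algebra.TensorProduct.includeRight (R := (n w).R)
          (A := (n w).S') (B := B)).toRingHom) ≫ Spec.map (CommRingCat.ofHom (χs w).toRingHom) := by
      rw [Nhd.w, pullback.lift_snd]; exact sqC.w
    let π := (isPullback_bcR q hU (χs w)).lift _ _ ((Category.assoc _ _ _).trans hsq)
    have hπ : π ≫ pullback.snd q (cR hU B) = _ := IsPullback.lift_snd _ _ _ _
    have hπ1 : π ≫ bcR q hU (χs w) = _ := IsPullback.lift_fst _ _ _ _
    have hW : IsPullback (Spec.map (CommRingCat.ofHom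
          (Algebra.TensorProduct.includeLeftRingHom : (n w).S' →+* C))) π ((n w).w hU)
          (bcR q hU (χs w)) := by
      refine IsPullback.of_bot ?_ hπ1.symm (isPullback_bcR q hU (χs w))
      rw [hπ, Nhd.w, pullback.lift_snd]
      exact sqC
    haveI := (n w).etale_w hU
    refine ⟨_, π, MorphismProperty.of_isPullback hW (show Flat ((n w).w hU) from inferInstance), ?_, ?_⟩
    · rintro z ⟨x, hx⟩
      obtain ⟨c, -, hc⟩ := Scheme.exists_preimage_of_isPullback hW x z hx
      exact ⟨c, hc⟩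
    · have hfst : π ≫ pullback.fst q (cR hU B) =
          Spec.map (CommRingCat.ofHom (algebraMap Γ(Y, (n w).V) C)) ≫ (n w).hV.fromSpec := by
        rw [← pullback.lift_fst (f := q) (g := cR hU (n w).R) (pullback.fst q (cR hU B))
          (pullback.snd q (cR hU B) ≫ Spec.map (CommRingCat.ofHom (χs w).toRingHom))
          (by rw [Category.assoc, cR_comp, pullback.condition]), ← Category.assoc,
          show π ≫ bcR q hU (χs w) = _ from hπ1, Category.assoc, Nhd.w, pullback.lift_fst,
          ← Spec.map_comp_assoc]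
        rfl
      rw [← pullback_map_comp_iff, hfst,
        pullback_map_eq_zero_iff_of_chart G F σ (n w).hV C]
      refine Iff.trans ?_ (hJ w B)
      simp only [Set.forall_mem_range]
      exact forall_congr' fun m => tmul_eq_zero_iff B _
  choose W π hflat hrange hvan using chart
  constructor
  · intro h w
    refine fun a ha => (hvan w).1 ?_ ha
    rw [show (Scheme.Modules.pullback (pullback.fst q (cR hU B))).map σ = 0 from h]
    exact Functor.map_zero _ _ _
  · intro h
    refine eq_zero_of_flat_cover _ fun z => ?_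
    have hz : bcR q hU (χ.comp ι) z ∈ O := by
      by_contra hz
      have hmem : pullback.snd q (cR hU R) (bcR q hU (χ.comp ι) z) ∈
          (PrimeSpectrum.basicOpen g : Set (PrimeSpectrum R)) := by
        rw [← Scheme.Hom.comp_apply, pullback.lift_snd, Scheme.Hom.comp_apply,
          ← PrimeSpectrum.localization_away_comap_range R' g]
        exact ⟨Spec.map (CommRingCat.ofHom χ.toRingHom) (pullback.snd q (cR hU B) z), rfl⟩
      exact hgsub hmem ⟨_, hz, rfl⟩
    obtain ⟨w, hw⟩ := Set.mem_iUnion.1 hz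
    refine ⟨W w, π w, hflat w, hrange w ?_, (hvan w).2 fun a ha => h w ha⟩
    show bcR q hU (χs w) z ∈ Set.range ((n w).w hU)
    rw [show χs w = (χ.comp ι).comp (φs w) from rfl, ← bcR_comp, Scheme.Hom.comp_apply]
    exact hw

end Local

end Groth.Agent.VanFlat12
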