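import Groth.Agent.IdealSh.EffCartier
import Groth.Agent.IdealSh.Regular

/-!
The ideals of the numerators of a section defined off an effective Cartier divisor.
-/

set_option autoImplicit false
set_option linter.style.haveILetI false

universe u

open CategoryTheory CategoryTheory.Limits AlgebraicGeometry TopologicalSpace Opposite

noncomputable section

namespace Groth.Agent.VanFlat12.Poles

open Groth.Agent.IdealSh

variable {P Y : Scheme.{u}}

/-- restriction of functions -/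
abbrev rs (P : Scheme.{u}) {U V : P.Opens} (h : U ≤ V) : Γ(P, V) →+* Γ(P, U) :=
  (P.presheaf.map (homOfLE h).op).hom

theorem rs_rs {U V W : P.Opens} (h : U ≤ V) (h' : V ≤ W) (a : Γ(P, W)) :
    rs P h (rs P h' a) = rs P (h.trans h') a := by
  show (P.presheaf.map _ ≫ P.presheaf.map _) a = _
  rw [← P.presheaf.map_comp]
  rfl

variable (I : P.IdealSheafData) (hI : BlowUp.IsEffCartierIdeal I) (Q : P.Opens) (hQ : Q = I.support.compl)

include hQ in
theorem basicOpen_eq (W : P.affineOpens) (t : Γ(P, W.1)) (ht : I.ideal W = Ideal.span {t}) :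
    P.basicOpen t = W.1 ⊓ Q := by
  subst hQ
  exact Opens.ext ((Regular.basicOpen_eq_compl_support ht).trans (Set.diff_eq _ _))

include hI hQ in
theorem rs_inf_injective (U : P.Opens) : Function.Injective (rs P (inf_le_left : U ⊓ Q ≤ U)) := by
  intro a b hab
  have hpt : ∀ y : U, ∃ W : P.affineOpens, (y : P) ∈ W.1 ∧ W.1 ≤ U ∧ ∃ t : Γ(P, W.1),
      t ∈ nonZeroDivisors Γ(P, W.1) ∧ I.ideal W = Ideal.span {t} :=
    fun y => EffCartier.exists_equation hI _ U y.2
  choose W hyW hWU t ht htW using hpt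
  refine TopCat.Sheaf.eq_of_locally_eq' P.sheaf (fun y => (W y).1) U (fun y => homOfLE (hWU y))
    (fun y hy => Opens.mem_iSup.2 ⟨⟨y, hy⟩, hyW ⟨y, hy⟩⟩) a b fun y => ?_
  refine sub_eq_zero.1 (Regular.eq_zero_of_restrict_basicOpen (W y).2 (ht y) ?_)
  have hle : P.basicOpen (t y) ≤ U ⊓ Q := by
    rw [basicOpen_eq I Q hQ _ _ (htW y)]
    exact inf_le_inf_right Q (hWU y)
  show rs P (P.basicOpen_le (t y)) (rs P (hWU y) a - rs P (hWU y) b) = 0
  rw [map_sub, rs_rs, rs_rs, ← rs_rs hle (inf_le_left : U ⊓ Q ≤ U),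
    ← rs_rs hle (inf_le_left : U ⊓ Q ≤ U), hab, sub_self]

include hI hQ in
/-- A function on `V ⊓ Q` extending across a basic open extends after multiplying by a power. -/
theorem exists_pow_mul (V : P.affineOpens) (g : Γ(P, V.1)) (x : Γ(P, V.1 ⊓ Q))
    (a' : Γ(P, P.basicOpen g))
    (h : rs P (inf_le_left : P.basicOpen g ⊓ Q ≤ P.basicOpen g) a' =
      rs P (inf_le_inf_right Q (P.basicOpen_le g)) x) :
    ∃ (m : ℕ) (a : Γ(P, V.1)),
      rs P (inf_le_left : V.1 ⊓ Q ≤ V.1) a = rs P (inf_le_left : V.1 ⊓ Q ≤ V.1) g ^ m * x := by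
  have hloc : ∀ y : V.1, ∃ (W : P.affineOpens) (hW : W.1 ≤ V.1), (y : P) ∈ W.1 ∧
      ∃ (m : ℕ) (d : Γ(P, W.1)), rs P (inf_le_left : W.1 ⊓ Q ≤ W.1) d =
        rs P (inf_le_left.trans hW) g ^ m * rs P (inf_le_inf_right Q hW) x := by
    intro y
    obtain ⟨W, hyW, hWV, t, ht, htW⟩ := EffCartier.exists_equation hI _ V.1 y.2
    refine ⟨W, hWV, hyW, ?_⟩
    have hb := basicOpen_eq I Q hQ W t htW
    letI : Algebra Γ(P, W.1) Γ(P, W.1 ⊓ Q) := (rs P inf_le_left).toAlgebra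
    haveI : IsLocalization.Away t Γ(P, W.1 ⊓ Q) :=
      W.2.isLocalization_of_eq_basicOpen t (homOfLE inf_le_left) hb.symm
    obtain ⟨⟨c, ⟨_, e, rfl⟩⟩, hc⟩ := IsLocalization.surj (Submonoid.powers t) (rs P (inf_le_inf_right Q hWV) x)
    let G := rs P hWV g
    have hG : P.basicOpen G = W.1 ⊓ P.basicOpen g := P.basicOpen_res g (homOfLE hWV).op
    letI : Algebra Γ(P, W.1) Γ(P, P.basicOpen G) := (rs P (P.basicOpen_le G)).toAlgebra
    haveI : IsLocalization.Away G Γ(P, P.basicOpen G) := W.2.isLocalization_basicOpen G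
    have hGg : P.basicOpen G ≤ P.basicOpen g := hG.trans_le inf_le_right
    obtain ⟨⟨d, ⟨_, k, rfl⟩⟩, hd⟩ := IsLocalization.surj (Submonoid.powers G) (rs P hGg a')
    have key : rs P (P.basicOpen_le G) (G ^ k * c - d * t ^ e) = 0 := by
      refine rs_inf_injective I hI Q hQ _ ?_
      rw [map_zero, map_sub, map_sub, sub_eq_zero, map_mul, map_mul, map_mul, map_mul,
        show rs P (P.basicOpen_le G) d = rs P hGg a' * rs P (P.basicOpen_le G) (G ^ k) from hd.symm, map_mul]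
      have h1 := congrArg (rs P (inf_le_inf_right Q (P.basicOpen_le G) : P.basicOpen G ⊓ Q ≤ W.1 ⊓ Q)) hc
      simp only [RingHom.algebraMap_toAlgebra, map_mul, rs_rs] at h1
      have h2 := congrArg (rs P (inf_le_inf_right Q hGg : P.basicOpen G ⊓ Q ≤ P.basicOpen g ⊓ Q)) h
      simp only [rs_rs] at h2
      simp only [rs_rs]
      rw [← h1, h2]
      ring
    obtain ⟨⟨_, l, rfl⟩, hl⟩ := (IsLocalization.map_eq_zero_iff (Submonoid.powers G) Γ(P, P.basicOpen G) _).1 key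
    refine ⟨l + k, G ^ l * d, ?_⟩
    have hu : IsUnit (rs P (inf_le_left : W.1 ⊓ Q ≤ W.1) (t ^ e)) :=
      IsLocalization.map_units (M := Submonoid.powers t) Γ(P, W.1 ⊓ Q) ⟨t ^ e, e, rfl⟩
    refine hu.mul_left_injective ?_
    have h3 := congrArg (rs P (inf_le_left : W.1 ⊓ Q ≤ W.1)) hl
    simp only [RingHom.algebraMap_toAlgebra] at hc
    simp only [map_mul, map_sub, map_zero, mul_sub, sub_eq_zero] at h3
    show _ * _ = _ * _
    rw [map_mul, mul_assoc _ (rs P (inf_le_inf_right Q hWV) x), hc, pow_add, mul_assoc, mul_assoc]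
    rw [← h3]
    simp only [G, map_pow, rs_rs]
  choose W hWV hyW m d hd using hloc
  obtain ⟨t, ht⟩ := V.2.isCompact.elim_finite_subcover (fun y : V.1 => ((W y).1 : Set P))
    (fun y => (W y).1.2) fun y hy => Set.mem_iUnion.2 ⟨⟨y, hy⟩, hyW _⟩
  let M := t.sup m
  have hsec : ∀ y : t, ∀ (R : P.Opens) (hR : R ≤ (W y).1) (hRQ : R ≤ V.1 ⊓ Q),
      rs P hR (rs P (hWV y) g ^ (M - m y) * d y) =
        rs P hRQ (rs P (inf_le_left : V.1 ⊓ Q ≤ V.1) g ^ M * x) := by
    intro y R hR hRQ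
    have hR' : R ≤ (W y).1 ⊓ Q := le_inf hR (hRQ.trans inf_le_right)
    rw [← rs_rs hR' (inf_le_left : (W y).1 ⊓ Q ≤ (W y).1), map_mul (rs P inf_le_left), hd]
    simp only [map_mul, map_pow, rs_rs, ← mul_assoc, ← pow_add,
      Nat.sub_add_cancel (Finset.le_sup (f := m) y.2), M]
  obtain ⟨a, ha, -⟩ := TopCat.Sheaf.existsUnique_gluing' P.sheaf (fun y : t => (W y).1) V.1
    (fun y => homOfLE (hWV y))
    (fun z hz => by
      obtain ⟨y, hy, hz'⟩ := Set.mem_iUnion₂.1 (ht hz)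
      exact Opens.mem_iSup.2 ⟨⟨y, hy⟩, hz'⟩)
    (fun y => rs P (hWV y) g ^ (M - m y) * d y) fun y z => by
      refine rs_inf_injective I hI Q hQ ((W y).1 ⊓ (W z).1) ?_
      show rs P _ (rs P inf_le_left _) = rs P _ (rs P inf_le_right _)
      rw [rs_rs, rs_rs, hsec y _ _ (inf_le_inf_right Q (inf_le_left.trans (hWV y))), hsec z _ _ (inf_le_inf_right Q (inf_le_left.trans (hWV y)))]
  refine ⟨M, a, ?_⟩
  refine TopCat.Sheaf.eq_of_locally_eq' P.sheaf (fun y : t => (W y).1 ⊓ Q) (V.1 ⊓ Q)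
    (fun y => homOfLE (inf_le_inf_right Q (hWV y))) (fun z hz => by
      obtain ⟨y, hy, hz'⟩ := Set.mem_iUnion₂.1 (ht hz.1)
      exact Opens.mem_iSup.2 ⟨⟨y, hy⟩, hz', hz.2⟩) _ _ fun y => ?_
  show rs P (inf_le_inf_right Q (hWV y)) (rs P _ a) = _
  rw [rs_rs, ← rs_rs (inf_le_left : (W y).1 ⊓ Q ≤ (W y).1) (hWV y),
    show rs P (hWV y) a = rs P (hWV y) g ^ (M - m y) * d y from ha y]
  exact hsec y _ _ _

variable (p : Y ⟶ P) (s : (Q : Scheme.{u}) ⟶ Y) (hs : s ≫ p = Q.ι)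

include hs in
theorem preimage_le (U : P.Opens) : Q.ι ⁻¹ᵁ U ≤ s ⁻¹ᵁ (p ⁻¹ᵁ U) := fun x hx => by
  show p (s x) ∈ U
  rw [← Scheme.Hom.comp_apply, hs]
  exact hx

theorem inf_le_image (U : P.Opens) : U ⊓ Q ≤ Q.ι ''ᵁ (Q.ι ⁻¹ᵁ U) := by
  rintro x ⟨hx, hxQ⟩
  exact ⟨⟨x, hxQ⟩, hx, rfl⟩

/-- the section on functions -/
def sB (U : P.Opens) : Γ(Y, p ⁻¹ᵁ U) →+* Γ(P, U ⊓ Q) :=
  (rs P (inf_le_image Q U)).comp (s.appLE (p ⁻¹ᵁ U) (Q.ι ⁻¹ᵁ U) (preimage_le Q p s hs U)).hom

theorem sB_app (U : P.Opens) (a : Γ(P, U)) :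
    sB Q p s hs U (p.app U a) = rs P inf_le_left a := by
  show ((p.app U ≫ s.appLE _ _ _) ≫ P.presheaf.map _) a = _
  rw [p.app_eq_appLE, Scheme.Hom.appLE_comp_appLE]
  simp only [hs, Scheme.Opens.ι_appLE]
  erw [← P.presheaf.map_comp]
  rfl

theorem rs_sB {U U' : P.Opens} (h : U' ≤ U) (b : Γ(Y, p ⁻¹ᵁ U)) :
    rs P (inf_le_inf_right Q h) (sB Q p s hs U b) =
      sB Q p s hs U' (Y.presheaf.map (homOfLE (p.preimage_mono h)).op b) := by
  have e1 : Y.presheaf.map (homOfLE (p.preimage_mono h)).op ≫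
      s.appLE (p ⁻¹ᵁ U') (Q.ι ⁻¹ᵁ U') (preimage_le Q p s hs U') =
      s.appLE (p ⁻¹ᵁ U) (Q.ι ⁻¹ᵁ U) (preimage_le Q p s hs U) ≫
        (Q : Scheme.{u}).presheaf.map (homOfLE (Q.ι.preimage_mono h)).op := by
    rw [Scheme.Hom.map_appLE, Scheme.Hom.appLE_map]
  show (s.appLE _ _ _ ≫ P.presheaf.map _ ≫ P.presheaf.map _) b =
    ((Y.presheaf.map _ ≫ s.appLE _ _ _) ≫ P.presheaf.map _) b
  rw [e1]
  refine congrArg (fun φ => (CommRingCat.Hom.hom φ) b) ((congrArg _ ?_).trans (Category.assoc _ _ _).symm)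
  exact (P.presheaf.map_comp _ _).symm.trans
    ((congrArg _ (Subsingleton.elim _ _)).trans (P.presheaf.map_comp _ _))

/-- numerators of the section, poles of order at most `n` -/
def numIdeal (n : ℕ) (V : P.affineOpens) : Ideal Γ(P, V.1) :=
  Ideal.span {a | ∃ u ∈ (I ^ n).ideal V, ∃ b, rs P inf_le_left a = rs P inf_le_left u * sB Q p s hs V.1 b}

variable [IsAffineHom p]

include hI hQ in
theorem map_numIdeal (n : ℕ) (V : P.affineOpens) (g : Γ(P, V.1)) :
    (numIdeal I Q p s hs n V).map (P.presheaf.map (homOfLE <| P.basicOpen_le g).op).hom =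
      numIdeal I Q p s hs n (P.affineBasicOpen g) := by
  apply le_antisymm
  · rw [numIdeal, Ideal.map_span, Ideal.span_le]
    rintro _ ⟨a, ⟨u, hu, b, hab⟩, rfl⟩
    refine Ideal.subset_span ⟨rs P (P.basicOpen_le g) u, ?_,
      Y.presheaf.map (homOfLE (p.preimage_mono (P.basicOpen_le g))).op b, ?_⟩
    · rw [← (I ^ n).map_ideal_basicOpen V g]
      exact Ideal.mem_map_of_mem _ hu
    · show rs P inf_le_left (rs P (P.basicOpen_le g) a) = _
      have := congrArg (rs P (inf_le_inf_right Q (P.basicOpen_le g))) hab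
      rw [map_mul, rs_rs, rs_rs, rs_sB (h := P.basicOpen_le g)] at this
      exact (rs_rs _ (P.basicOpen_le g) _).trans
        (this.trans (congrArg (· * _) (rs_rs _ (P.basicOpen_le g) _).symm))
  · refine Ideal.span_le.2 ?_
    rintro (a' : Γ(P, P.basicOpen g)) ⟨(u' : Γ(P, P.basicOpen g)), hu', (b' : Γ(Y, p ⁻¹ᵁ P.basicOpen g)), hab⟩
    change rs P (inf_le_left : P.basicOpen g ⊓ Q ≤ P.basicOpen g) a' =
      rs P inf_le_left u' * sB Q p s hs (P.basicOpen g) b' at hab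
    letI : Algebra Γ(P, V.1) Γ(P, P.basicOpen g) := (rs P (P.basicOpen_le g)).toAlgebra
    haveI : IsLocalization.Away g Γ(P, P.basicOpen g) := V.2.isLocalization_basicOpen g
    letI : Algebra Γ(Y, p ⁻¹ᵁ V.1) Γ(Y, p ⁻¹ᵁ P.basicOpen g) :=
      (Y.presheaf.map (homOfLE (p.preimage_mono (P.basicOpen_le g))).op).hom.toAlgebra
    haveI : IsLocalization.Away (p.app V.1 g) Γ(Y, p ⁻¹ᵁ P.basicOpen g) :=
      (V.2.preimage p).isLocalization_of_eq_basicOpen _ (homOfLE (p.preimage_mono (P.basicOpen_le g)))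
        (Scheme.preimage_basicOpen p g)
    have hu'' : u' ∈ ((I ^ n).ideal V).map (algebraMap Γ(P, V.1) Γ(P, P.basicOpen g)) :=
      ((I ^ n).map_ideal_basicOpen V g).ge hu'
    obtain ⟨⟨⟨u, hu⟩, ⟨_, k, rfl⟩⟩, hk⟩ :=
      (IsLocalization.mem_map_algebraMap_iff (Submonoid.powers g) _).1 hu''
    obtain ⟨⟨b, ⟨_, l, rfl⟩⟩, hl⟩ := IsLocalization.surj (Submonoid.powers (p.app V.1 g)) b'
    have hle := inf_le_inf_right Q (P.basicOpen_le g)
    simp only [RingHom.algebraMap_toAlgebra] at hk hl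
    have hb : rs P hle (sB Q p s hs V.1 b) =
        sB Q p s hs _ b' * rs P (inf_le_left.trans (P.basicOpen_le g)) g ^ l := by
      rw [rs_sB (h := P.basicOpen_le g), ← hl, map_mul, map_pow, map_pow,
        ← rs_sB Q p s hs (P.basicOpen_le g), sB_app, rs_rs]
    have hu2 : rs P hle (rs P inf_le_left u) =
        rs P inf_le_left u' * rs P (inf_le_left.trans (P.basicOpen_le g)) g ^ k := by
      rw [rs_rs, ← rs_rs (inf_le_left : P.basicOpen g ⊓ Q ≤ _) (P.basicOpen_le g) u,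
        show rs P (P.basicOpen_le g) u = u' * rs P (P.basicOpen_le g) (g ^ k) from hk.symm, map_mul,
        map_pow, map_pow, rs_rs]
    obtain ⟨m, a, ha⟩ := exists_pow_mul I hI Q hQ V g (rs P inf_le_left u * sB Q p s hs V.1 b)
      (rs P (P.basicOpen_le g) g ^ (k + l) * a') (by
        rw [map_mul, hab, map_mul, hu2, hb, map_pow, rs_rs]
        ring_nf
        first | exact (mul_assoc _ _ _).symm | exact mul_assoc _ _ _)
    have hmem : a ∈ numIdeal I Q p s hs n V := Ideal.subset_span ⟨g ^ m * u,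
      Ideal.mul_mem_left _ _ hu, b, by rw [ha, map_mul, map_pow, mul_assoc]⟩
    have heq : rs P (P.basicOpen_le g) a = rs P (P.basicOpen_le g) g ^ (m + (k + l)) * a' := by
      refine rs_inf_injective I hI Q hQ _ ?_
      rw [rs_rs, ← rs_rs hle (inf_le_left : V.1 ⊓ Q ≤ V.1), ha]
      simp only [map_mul, map_pow, rs_rs]
      rw [hab]
      rw [show rs P hle (sB Q p s hs V.1 b) = _ from hb, ← rs_rs hle (inf_le_left : V.1 ⊓ Q ≤ V.1) u,
        hu2]
      ring_nf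
      first | exact (mul_assoc _ _ _).symm | exact mul_assoc _ _ _
    have hunit : IsUnit (rs P (P.basicOpen_le g) g ^ (m + (k + l))) :=
      (IsLocalization.map_units (M := Submonoid.powers g) Γ(P, P.basicOpen g) ⟨g, 1, pow_one g⟩).pow _
    have := Ideal.mem_map_of_mem (rs P (P.basicOpen_le g)) hmem
    rw [heq] at this
    exact (Ideal.unit_mul_mem_iff_mem _ hunit).1 this

/-- the ideal sheaf of numerators -/
def num (n : ℕ) : P.IdealSheafData where
  ideal := numIdeal I Q p s hs n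
  map_ideal_basicOpen := map_numIdeal I hI Q hQ p s hs n

end Groth.Agent.VanFlat12.Poles
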